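import Cfsg.Agent.H413.L16.Nel_m3
import Mathlib.Data.List.Basic
import Cfsg.Agent.BpExc.AsmN_m3
import Cfsg.Agent.Lib.FinFast
import Cfsg.Agent.H876.L64.TFive_m3
import Cfsg.Agent.H378.SmallTor_m3
import Cfsg.Agent.H939.L16.Frm_m3
import Cfsg.Agent.H939.L64.Base
import Cfsg.Agent.H795.TorSub
import Cfsg.Agent.S1093
import Cfsg.Agent.H953.Rank
import Cfsg.Agent.H793.RIM.L34A
import Cfsg.Agent.H691.L34.Def
import Cfsg.Agent.FastGrp
import Cfsg.Agent.Prune
set_option linter.all false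

section
prune_inst 0x7ffcfdf9abb8bfffffff7e7faedfdffdf9f9bfffe6dff9cbbfe8a3dfab9f6b08c9c56bad0fe050fe0ef6e01410f87b53fbffeeffe86bdc7ffffd5ff41ffbffdffdf73508519c88b40ff80fff8bf0778e7f3fffffffffffffffffffffffffffbeffffffffffff

-- part: H201/L34/Tab
section
set_option linter.all false
open scoped Cfsg.Agent.FastGrp

/-!
# S5917 (`L₃(4)` in `E₈(2)`): the tables of the frame (helper201)

Roots: index `s < 240` of `chevE8`, `239 - s` is the negative (numbering of `H413.L16`).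

* `V1 V2` : the values on the simple roots of the two generators of `E0 = 3²`; the weight of a root is
  `(c₀, c₁)`, the first two letters of the word `(c₀, c₁, c₀ + c₁, c₀ - c₁)` of the tetracode; weight zero = `A₂⁴`;
* `ia k i j` : the root `e_i - e_j` of the component `k`; `it n i j l` : the root of the `n`-th word with the
  indices `i j l` (in the order of the positions of the non-zero letters);
* `qi qj` : the permutations of the roots by the generators of `Q₈` (signed permutations of the four components),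
  `qi² = qj² = (s ↦ 239 - s)`.
-/

set_option autoImplicit false
set_option maxRecDepth 100000

namespace Cfsg.Agent.H201.L34

open Cfsg Cfsg.Lie
open Cfsg.Agent.H413.L16 (tg)
open Cfsg.Agent.ChevalleyStructure.RootVec (rt)

/-- the first generator of `E0` -/
def V1 : Fin 8 → ZMod 3 := ![0, 0, 0, 0, 0, 0, 1, 0]

/-- the second generator of `E0` -/
def V2 : Fin 8 → ZMod 3 := ![0, 0, 0, 1, 0, 0, 2, 0]

/-- the weight of a root for the first generator -/
def w1 (s : ℕ) : ZMod 3 := ∑ i : Fin 8, V1 i * (rt chevE8 s i : ℤ)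

/-- the weight of a root for the second generator -/
def w2 (s : ℕ) : ZMod 3 := ∑ i : Fin 8, V2 i * (rt chevE8 s i : ℤ)

/-- the table of `3 c₀ + c₁` -/
def CW : List ℕ :=
  [0, 0, 5, 5, 5, 3, 3, 3, 3, 4, 4, 4, 6, 6, 3, 3, 4, 4, 4, 6, 6, 4, 4, 4, 6, 6, 5, 5, 7, 7, 5, 7, 7, 7, 7, 0, 5, 5,
  7, 7, 5, 7, 7, 7, 7, 0, 3, 8, 8, 8, 8, 1, 8, 8, 1, 1, 3, 8, 8, 8, 8, 1, 8, 8, 1, 1, 6, 6, 2, 2, 2, 6, 6, 2, 2, 2,
  0, 0, 3, 8, 8, 8, 8, 1, 8, 8, 1, 1, 6, 6, 2, 2, 2, 6, 6, 2, 2, 2, 0, 6, 6, 2, 2, 2, 0, 6, 6, 2, 2, 2, 7, 7, 0, 0,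
  7, 7, 0, 7, 7, 0, 0, 5, 5, 0, 5, 5, 0, 0, 5, 5, 1, 1, 1, 3, 3, 0, 1, 1, 1, 3, 3, 0, 1, 1, 1, 3, 3, 1, 1, 1, 3, 3,
  2, 2, 4, 4, 2, 4, 4, 4, 4, 6, 0, 0, 1, 1, 1, 3, 3, 1, 1, 1, 3, 3, 2, 2, 4, 4, 2, 4, 4, 4, 4, 6, 2, 2, 4, 4, 2, 4,
  4, 4, 4, 6, 0, 5, 5, 5, 5, 7, 5, 5, 7, 7, 0, 5, 5, 5, 5, 7, 5, 5, 7, 7, 3, 3, 8, 8, 8, 3, 3, 8, 8, 8, 6, 6, 3, 3,
  8, 8, 8, 6, 6, 6, 6, 7, 7, 7, 0, 0]

/-- the permutation `i` -/
def QI : List ℕ :=
  [112, 113, 155, 154, 9, 136, 147, 130, 142, 235, 111, 110, 152, 153, 61, 51, 199, 29, 28, 68, 69, 209, 39, 38, 73,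
  74, 187, 186, 221, 222, 21, 58, 60, 57, 59, 77, 177, 176, 216, 217, 16, 48, 50, 47, 49, 76, 164, 196, 198, 195,
  197, 224, 26, 27, 67, 66, 169, 206, 208, 205, 207, 225, 36, 37, 72, 71, 184, 185, 220, 219, 56, 174, 175, 215, 214,
  46, 194, 204, 83, 122, 125, 121, 124, 161, 2, 3, 13, 12, 95, 96, 140, 139, 6, 107, 108, 151, 150, 8, 135, 90, 91,
  134, 133, 5, 98, 101, 102, 146, 145, 7, 228, 229, 239, 238, 80, 82, 120, 79, 81, 116, 123, 158, 160, 119, 157, 159,
  1, 0, 10, 11, 232, 94, 93, 137, 138, 141, 234, 106, 105, 148, 149, 104, 231, 89, 88, 131, 132, 233, 100, 99, 143,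
  144, 227, 226, 236, 237, 78, 115, 118, 114, 117, 156, 35, 45, 193, 25, 24, 64, 65, 183, 20, 19, 54, 55, 168, 167,
  202, 203, 14, 32, 34, 31, 33, 70, 173, 172, 212, 213, 15, 42, 44, 41, 43, 75, 163, 190, 192, 189, 191, 223, 22, 23,
  63, 62, 162, 180, 182, 179, 181, 218, 17, 18, 53, 52, 165, 166, 201, 200, 30, 170, 171, 211, 210, 40, 188, 178, 86,
  87, 129, 128, 4, 97, 109, 92, 103, 230, 85, 84, 126, 127]

/-- the permutation `j` -/
def QJ : List ℕ :=
  [77, 135, 65, 138, 149, 63, 223, 60, 222, 140, 151, 220, 160, 192, 62, 59, 6, 8, 56, 11, 23, 139, 150, 219, 159,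
  191, 64, 137, 70, 97, 148, 75, 109, 156, 188, 127, 61, 136, 69, 96, 147, 74, 108, 153, 185, 123, 58, 13, 25, 67,
  94, 34, 72, 106, 44, 118, 221, 161, 193, 224, 232, 203, 225, 234, 213, 237, 158, 190, 129, 201, 211, 155, 187, 125,
  198, 208, 120, 239, 57, 12, 24, 66, 93, 33, 71, 105, 43, 117, 10, 22, 4, 30, 40, 157, 189, 128, 200, 210, 126, 9,
  21, 3, 27, 37, 1, 154, 186, 124, 197, 207, 68, 95, 35, 98, 73, 107, 45, 152, 184, 76, 163, 55, 87, 194, 132, 166,
  141, 204, 144, 171, 32, 42, 115, 53, 85, 238, 202, 212, 236, 218, 230, 113, 29, 39, 111, 50, 82, 199, 209, 235,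
  217, 229, 122, 196, 134, 168, 206, 146, 173, 215, 227, 182, 0, 119, 31, 41, 114, 52, 84, 28, 38, 110, 49, 81, 2,
  26, 5, 14, 36, 7, 15, 46, 78, 18, 121, 195, 133, 167, 205, 145, 172, 214, 226, 181, 116, 54, 86, 131, 165, 92, 143,
  170, 103, 178, 112, 51, 83, 130, 164, 91, 142, 169, 102, 175, 48, 80, 20, 89, 100, 216, 228, 183, 231, 233, 180,
  177, 47, 79, 19, 88, 99, 17, 179, 16, 176, 90, 101, 174, 104, 162]

/-- the roots of the four components `A₂` : entry `9 k + 3 i + j` -/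
def AT : List ℕ :=
  [240, 0, 1, 239, 240, 120, 238, 119, 240, 240, 112, 113, 127, 240, 123, 126, 116, 240, 240, 77, 135, 162, 240, 163,
  104, 76, 240, 240, 35, 98, 204, 240, 194, 141, 45, 240]

/-- the roots of the eight tensor spaces : entry `27 n + 9 i + 3 j + l`, words in the order
`(0,1), (0,2), (1,0), (1,1), (1,2), (2,0), (2,1), (2,2)` of the first two letters -/
def TB : List ℕ :=
  [147, 61, 136, 169, 83, 164, 142, 51, 130, 149, 65, 138, 171, 87, 166, 144, 55, 132, 148, 64, 137, 170, 86, 165,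
  143, 54, 131, 92, 178, 103, 70, 156, 75, 97, 188, 109, 90, 174, 101, 68, 152, 73, 95, 184, 107, 91, 175, 102, 69,
  153, 74, 96, 185, 108, 6, 56, 8, 14, 78, 15, 5, 46, 7, 140, 220, 151, 168, 227, 173, 134, 215, 146, 139, 219, 150,
  167, 226, 172, 133, 214, 145, 16, 9, 21, 18, 11, 23, 17, 10, 22, 177, 155, 187, 182, 160, 192, 180, 158, 190, 176,
  154, 186, 181, 159, 191, 179, 157, 189, 40, 4, 30, 36, 2, 26, 37, 3, 27, 211, 129, 201, 206, 122, 196, 208, 125,
  198, 210, 128, 200, 205, 121, 195, 207, 124, 197, 233, 183, 231, 225, 161, 224, 234, 193, 232, 99, 19, 88, 71, 12,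
  66, 105, 24, 93, 100, 20, 89, 72, 13, 67, 106, 25, 94, 199, 235, 209, 203, 237, 213, 202, 236, 212, 28, 110, 38,
  33, 117, 43, 31, 114, 41, 29, 111, 39, 34, 118, 44, 32, 115, 42, 223, 230, 218, 221, 228, 216, 222, 229, 217, 62,
  84, 52, 57, 79, 47, 59, 81, 49, 63, 85, 53, 58, 80, 48, 60, 82, 50]

/-- `3 c₀ + c₁` -/
def cw (s : ℕ) : ℕ := CW.getD s 9

/-- the permutation `i` -/
def qi (s : ℕ) : ℕ := QI.getD s 240

/-- the permutation `j` -/
def qj (s : ℕ) : ℕ := QJ.getD s 240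

/-- the root `e_i - e_j` of the component `k` -/
def ia (k i j : ℕ) : ℕ := AT.getD (9 * k + 3 * i + j) 240

/-- the root of the `n`-th word with the indices `i j l` -/
def it (n i j l : ℕ) : ℕ := TB.getD (27 * n + 9 * i + 3 * j + l) 240

private def lk (T s : ℕ) : ℕ := Nat.land (Nat.shiftRight T (Nat.mul 8 s)) 255

private def tC : ℕ := 0x7070706060606080808030306060808080303080808030307070505070505050500070705050705050505000604040404020404020206040404040204040202030301010103030101010000060404040402040402020303010101030301010100030301010100030301010105050000050500050500000707000707000007070202020606000202020606000202020606020202060601010808010808080803000002020206060202020606010108080108080808030101080801080808080300070707070507070505000707070705070705050606040404060604040403030606040404030303030505050000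

private def tI : ℕ := 0x7f7e5455e6675c6d610480815756b2bc28d2d3abaa1ec8c9a6a534351211dab5b3b6b4a23e3f1716dfbfbdc0bea34b2b292c2a0fd5d4acad46211f22200ecbcaa7a837361314b741401819c12d239c757276734eedece2e3908f6364e984835859e7689594696aea8d8a895d5ee80b0a00019f9d77a09e7b74514f785250eeefe5e40791926665620585865b5a870896976c6b068b8c605f0c0d0302a17c797d7a53ccc22ed6d7afae38dbdcb9b847482524e1cfcdd0cea942431b1ae0c5c3c6c4a44c312f323010d9d8b0b14d3b393c3a15deddbabb4a492627d145441c1dc7333d99986e6feb8e829388099a9b7170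

private def tJ : ℕ := 0xa268ae655ab010b3116358134f2fb1b4e9e7b7e4d86459145030af66a98e5ba482533370b267aa8f5ca583563674b5e2d6ac91cda785c379124e2e0f07240e051a0251316e261c543472291f7700b6e3d7ad92cea886c47ae5d9ebd1c752326f271d71e6daecd4caee5535732a20ab90cc8da684c25737a34cb8982d6b4962235f44cfc57cba9a01251b0315097ed2c880bd9d281e04160a752b6947215d42180c39ef78d0c67dbb9bd3c981be9eedd5eae1cbe8e0c1a1dd762c6a48225e43190d3a7bb9996c4a936045883d7fbc9c6d4b9461468940bf9fdb968b170b3808063b3ec0a0dc978cde3cdf3f958a41874d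

private theorem getD_lk {L : List ℕ} {T : ℕ} (h : L = (List.range 240).map (lk T)) (d : ℕ) {s : ℕ} (hs : s < 240) :
    L.getD s d = lk T s := by
  rw [h, List.getD_eq_getElem?_getD, List.getElem?_map, List.getElem?_range hs]
  rfl

private theorem cw_eq {s : ℕ} (hs : s < 240) : cw s = lk tC s := getD_lk (by decide +kernel) 9 hs

private theorem qi_eq {s : ℕ} (hs : s < 240) : qi s = lk tI s := getD_lk (by decide +kernel) 240 hs

private theorem qj_eq {s : ℕ} (hs : s < 240) : qj s = lk tJ s := getD_lk (by decide +kernel) 240 hs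

private theorem w1_eq (s : ℕ) : w1 s = ((rt chevE8 s 6 : ℤ) : ZMod 3) := by
  rw [w1, Fin.sum_univ_eight]
  show (0 : ZMod 3) * _ + 0 * _ + 0 * _ + 0 * _ + 0 * _ + 0 * _ + 1 * ((rt chevE8 s 6 : ℤ) : ZMod 3) + 0 * _ = _
  simp only [zero_mul, zero_add, add_zero, one_mul]

private theorem w2_eq (s : ℕ) : w2 s = ((rt chevE8 s 3 : ℤ) : ZMod 3) + 2 * ((rt chevE8 s 6 : ℤ) : ZMod 3) := by
  rw [w2, Fin.sum_univ_eight]
  show (0 : ZMod 3) * _ + 0 * _ + 0 * _ + 1 * ((rt chevE8 s 3 : ℤ) : ZMod 3) + 0 * _ + 0 * _ +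
    2 * ((rt chevE8 s 6 : ℤ) : ZMod 3) + 0 * _ = _
  simp only [zero_mul, zero_add, add_zero, one_mul]

private theorem cw_f : ((List.range 240).all fun s => decide (((rt chevE8 s 6 : ℤ) : ZMod 3) = (lk tC s / 3 : ℕ) ∧
    ((rt chevE8 s 3 : ℤ) : ZMod 3) + 2 * ((rt chevE8 s 6 : ℤ) : ZMod 3) = (lk tC s % 3 : ℕ) ∧ lk tC s < 9)) = true := by
  decide +kernel

private theorem cw_at {s : ℕ} (hs : s < 240) :
    w1 s = (lk tC s / 3 : ℕ) ∧ w2 s = (lk tC s % 3 : ℕ) ∧ lk tC s < 9 := by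
  rw [w1_eq, w2_eq]
  exact of_decide_eq_true (List.all_eq_true.1 cw_f s (List.mem_range.2 hs))

theorem cw_tab : ((List.range 240).all fun s => decide (w1 s = (cw s / 3 : ℕ) ∧ w2 s = (cw s % 3 : ℕ) ∧ cw s < 9)) = true := by
  refine List.all_eq_true.2 fun s hs => decide_eq_true ?_
  rw [cw_eq (List.mem_range.1 hs)]
  exact cw_at (List.mem_range.1 hs)

private theorem q_f : ((List.range 240).all fun s => decide (lk tI (lk tI s) = 239 - s ∧ lk tJ (lk tJ s) = 239 - s ∧
    lk tI s < 240 ∧ lk tJ s < 240 ∧ lk tI (239 - s) = 239 - lk tI s ∧ lk tJ (239 - s) = 239 - lk tJ s ∧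
      lk tI (lk tJ s) = 239 - lk tJ (lk tI s))) = true := by
  decide +kernel

theorem q_tab : ((List.range 240).all fun s => decide (qi (qi s) = 239 - s ∧ qj (qj s) = 239 - s ∧ qi s < 240 ∧
    qj s < 240 ∧ qi (239 - s) = 239 - qi s ∧ qj (239 - s) = 239 - qj s ∧ qi (qj s) = 239 - qj (qi s))) = true := by
  refine List.all_eq_true.2 fun s hs => decide_eq_true ?_
  have h := of_decide_eq_true (List.all_eq_true.1 q_f s hs)
  have h1 := List.mem_range.1 hs
  have h2 : 239 - s < 240 := by omega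
  rw [qi_eq h1, qj_eq h1, qi_eq h2, qj_eq h2, qi_eq h.2.2.1, qj_eq h.2.2.1, qi_eq h.2.2.2.1, qj_eq h.2.2.2.1]
  exact h

private theorem qc_f : ((List.range 240).all fun s => decide (
    ((lk tC (lk tI s) / 3 : ℕ) : ZMod 3) = -((lk tC s % 3 : ℕ) : ZMod 3) ∧
    ((lk tC (lk tI s) % 3 : ℕ) : ZMod 3) = ((lk tC s / 3 : ℕ) : ZMod 3) ∧
    ((lk tC (lk tJ s) / 3 : ℕ) : ZMod 3) = -(((lk tC s / 3 : ℕ) : ZMod 3) + ((lk tC s % 3 : ℕ) : ZMod 3)) ∧
    ((lk tC (lk tJ s) % 3 : ℕ) : ZMod 3) = -(((lk tC s / 3 : ℕ) : ZMod 3) - ((lk tC s % 3 : ℕ) : ZMod 3)))) = true := by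
  decide +kernel

/-- the action on the words : `i (c₀, c₁) = (-c₁, c₀)`, `j` -/
theorem q_cw : ((List.range 240).all fun s => decide (w1 (qi s) = -w2 s ∧ w2 (qi s) = w1 s ∧
    w1 (qj s) = -(w1 s + w2 s) ∧ w2 (qj s) = -(w1 s - w2 s))) = true := by
  refine List.all_eq_true.2 fun s hs => decide_eq_true ?_
  have h := of_decide_eq_true (List.all_eq_true.1 q_f s hs)
  have h1 := List.mem_range.1 hs
  rw [qi_eq h1, qj_eq h1, (cw_at h1).1, (cw_at h1).2.1, (cw_at h.2.2.1).1, (cw_at h.2.2.1).2.1, (cw_at h.2.2.2.1).1,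
    (cw_at h.2.2.2.1).2.1]
  exact of_decide_eq_true (List.all_eq_true.1 qc_f s hs)

end Cfsg.Agent.H201.L34
end

-- part: H251/L34/Pure
section
prune_inst 0x30204540740000000000051202000020240000000000040034c20506010f522289402800fa101c0080aebc005808004001100160420000000a0034000002002088865a043740a3006e0007000086000000000000000000000000000000041000000000000
set_option linter.all false
open scoped Cfsg.Agent.FastGrp

-- part: H251/L34/PureTab
section
/-!
# S5917: table of the pure pairs of `E₈ / 3 E₈` (helper251)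

`tab` : the 780 vectors `b` with `b, v1 + b, v1 - b` singular, in two trees: (code in base 3, generator, index of the
image); generator `8` is the reflection in the highest root, `9` marks the two representatives.
-/

set_option autoImplicit false
set_option maxRecDepth 100000

namespace Cfsg.Agent.H251.L34.PureTab

/-- the table -/
def tab : List (ℕ × ℕ × ℕ) :=
  [(1485, 9, 0), (1605, 3, 0), (1554, 1, 1), (1561, 2, 1), (1875, 4, 1), (1591, 2, 2), (1905, 4, 2), (1544, 0, 3),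
  (1912, 4, 3), (498, 5, 4), (1574, 0, 5), (1675, 3, 5), (1942, 4, 5), (1773, 3, 6), (528, 5, 6), (1895, 4, 7),
  (1762, 3, 8), (535, 5, 8), (1685, 3, 10), (1925, 4, 10), (2053, 4, 11), (1822, 3, 12), (565, 5, 12), (1739, 2,
  13), (639, 5, 13), (1772, 3, 15), (518, 5, 15), (1732, 1, 16), (628, 5, 16), (1638, 2, 18), (2063, 4, 18), (1832,
  3, 19), (548, 5, 19), (2173, 3, 20), (1000, 5, 20), (1852, 1, 21), (1859, 2, 21), (688, 5, 21), (1729, 0, 23),
  (605, 5, 23), (180, 4, 24), (1742, 1, 25), (1725, 2, 25), (638, 5, 25), (598, 5, 27), (169, 4, 28), (2097, 4, 29),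
  (2183, 3, 30), (1010, 5, 30), (1862, 1, 31), (1795, 2, 31), (698, 5, 31), (2122, 1, 33), (2129, 2, 33), (1120, 5,
  33), (1808, 2, 35), (718, 5, 35), (1849, 0, 36), (725, 5, 36), (337, 4, 37), (595, 5, 38), (227, 4, 39), (1776, 2,
  41), (608, 5, 41), (591, 5, 42), (179, 4, 43), (220, 4, 44), (1986, 3, 46), (1044, 5, 46), (2132, 1, 47), (2146,
  2, 47), (1130, 5, 47), (1825, 2, 49), (728, 5, 49), (1805, 0, 50), (661, 5, 50), (347, 4, 51), (2159, 2, 52),
  (1069, 5, 52), (2119, 0, 53), (1076, 5, 53), (1390, 4, 54), (1798, 0, 55), (674, 5, 55), (367, 4, 56), (715, 5,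
  57), (374, 4, 58), (217, 4, 60), (116, 3, 61), (1899, 3, 62), (642, 5, 62), (230, 4, 63), (213, 4, 64), (127, 3,
  66), (1956, 1, 67), (2023, 2, 67), (1176, 5, 67), (2176, 2, 69), (1079, 5, 69), (2156, 0, 70), (1093, 5, 70),
  (1400, 4, 71), (1835, 0, 72), (1936, 3, 72), (691, 5, 72), (377, 4, 73), (671, 5, 74), (391, 4, 75), (2149, 0,
  77), (2000, 3, 77), (1106, 5, 77), (1420, 4, 78), (1066, 5, 79), (1427, 4, 80), (664, 5, 82), (404, 4, 83), (478,
  3, 84), (364, 4, 85), (467, 3, 86), (133, 3, 87), (86, 1, 88), (1548, 4, 89), (522, 5, 89), (183, 4, 90), (110, 3,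
  91), (54, 3, 92), (90, 2, 93), (1993, 2, 94), (1146, 5, 94), (2006, 0, 95), (1213, 5, 95), (825, 4, 96), (2186, 0,
  97), (2056, 3, 97), (1123, 5, 97), (1430, 4, 98), (1103, 5, 99), (1444, 4, 100), (1919, 3, 102), (701, 5, 102),
  (1585, 4, 103), (559, 5, 103), (340, 4, 104), (461, 3, 105), (401, 4, 106), (271, 3, 107), (2017, 3, 108), (1096,
  5, 108), (1190, 5, 109), (1457, 4, 110), (1288, 3, 111), (1417, 4, 112), (1277, 3, 113), (394, 4, 114), (284, 3,
  115), (441, 2, 116), (484, 3, 117), (437, 1, 118), (103, 1, 119), (96, 2, 119), (1976, 0, 127), (2086, 3, 127),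
  (1183, 5, 127), (876, 4, 128), (1196, 5, 129), (862, 4, 130), (2066, 3, 132), (1133, 5, 132), (1678, 4, 133),
  (1003, 5, 133), (1393, 4, 134), (1271, 3, 135), (1454, 4, 136), (1324, 3, 137), (1568, 4, 138), (542, 5, 138),
  (350, 4, 139), (281, 3, 144), (1980, 2, 146), (1207, 5, 146), (1447, 4, 147), (839, 4, 148), (1337, 3, 149),
  (1251, 2, 150), (1294, 3, 151), (1247, 1, 152), (274, 3, 153), (314, 1, 154), (318, 2, 154), (454, 1, 156), (447,
  2, 156), (147, 2, 158), (2096, 3, 160), (1166, 5, 160), (1627, 4, 161), (1033, 5, 161), (832, 4, 162), (756, 3,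
  163), (845, 4, 164), (946, 3, 165), (2100, 2, 166), (1688, 4, 166), (1013, 5, 166), (1403, 4, 167), (1334, 3,
  172), (315, 2, 177), (1170, 5, 178), (856, 4, 179), (1327, 3, 180), (959, 3, 181), (1367, 1, 182), (1371, 2, 182),
  (1264, 1, 184), (1257, 2, 184), (304, 1, 186), (267, 2, 187), (417, 2, 189), (27, 3, 191), (2049, 2, 192), (1637,
  4, 192), (1043, 5, 192), (815, 4, 193), (956, 3, 198), (1641, 4, 200), (1047, 5, 200), (1368, 2, 204), (819, 4,
  206), (949, 3, 207), (1357, 1, 208), (908, 1, 209), (912, 2, 209), (1320, 2, 210), (1227, 2, 212), (1671, 4, 218),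
  (996, 5, 218), (909, 2, 222), (898, 1, 227), (942, 2, 229), (1512, 3, 233), (783, 3, 237), (2431, 9, 240), (2441,
  0, 240), (3484, 5, 240), (5347, 7, 240), (4618, 8, 240), (2475, 2, 241), (3494, 5, 241), (5357, 7, 241), (4628, 8,
  241), (3106, 4, 242), (6400, 7, 242), (5671, 8, 242), (3160, 8, 243), (3889, 7, 244), (2568, 3, 245), (3528, 5,
  245), (5391, 7, 245), (4662, 8, 245), (3116, 4, 246), (6410, 7, 246), (5681, 8, 246), (3170, 8, 247), (3899, 7,
  248), (2983, 3, 249), (6022, 7, 249), (5293, 8, 249), (4213, 8, 250), (2755, 7, 251), (6076, 7, 252), (2517, 1,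
  254), (2838, 4, 254), (3621, 5, 254), (5484, 7, 254), (4755, 8, 254), (3150, 4, 255), (6444, 7, 255), (5715, 8,
  255), (3204, 8, 256), (3933, 7, 257), (2993, 3, 258), (6032, 7, 258), (5303, 8, 258), (4223, 8, 259), (2765, 7,
  260), (6086, 7, 261), (2932, 1, 263), (2939, 2, 263), (5899, 7, 263), (5170, 8, 263), (3835, 8, 264), (2377, 7,
  265), (4942, 7, 266), (2868, 4, 269), (3570, 5, 269), (5433, 7, 269), (4704, 8, 269), (3972, 5, 270), (5754, 7,
  270), (5025, 8, 270), (3270, 4, 271), (6537, 7, 271), (5808, 8, 271), (3297, 8, 272), (4026, 7, 273), (3039, 3,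
  274), (6066, 7, 274), (5337, 8, 274), (4257, 8, 275), (2799, 7, 276), (6120, 7, 277), (2942, 1, 279), (2956, 2,
  279), (5909, 7, 279), (5180, 8, 279), (3845, 8, 280), (2387, 7, 281), (4952, 7, 282), (2969, 2, 285), (5848, 7,
  285), (5119, 8, 285), (2929, 0, 286), (5855, 7, 286), (5126, 8, 286), (3712, 8, 287), (2254, 7, 288), (4564, 7,
  289), (2736, 3, 292), (4002, 5, 292), (5784, 7, 292), (5055, 8, 292), (3300, 4, 293), (6486, 7, 293), (5757, 8,
  293), (3246, 8, 294), (3975, 7, 295), (4323, 4, 296), (4701, 7, 296), (6159, 8, 296), (3567, 8, 297), (4296, 7,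
  298), (3390, 3, 299), (6186, 7, 299), (5457, 8, 299), (4350, 8, 300), (2892, 7, 301), (6213, 7, 302), (3009, 1,
  304), (3076, 2, 304), (5955, 7, 304), (5226, 8, 304), (3879, 8, 305), (2421, 7, 306), (4986, 7, 307), (2986, 2,
  310), (5858, 7, 310), (5129, 8, 310), (2966, 0, 311), (5872, 7, 311), (5143, 8, 311), (3722, 8, 312), (2264, 7,
  313), (4574, 7, 314), (2959, 0, 317), (3053, 3, 317), (5885, 7, 317), (5156, 8, 317), (3661, 8, 318), (2203, 7,
  319), (5845, 7, 320), (5116, 8, 320), (3668, 8, 321), (2210, 7, 322), (4441, 7, 323), (2692, 2, 326), (4113, 5,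
  326), (5652, 7, 326), (4923, 8, 326), (4353, 4, 327), (4731, 7, 327), (6189, 8, 327), (3597, 8, 328), (4326, 7,
  329), (3207, 3, 330), (6216, 7, 330), (5487, 8, 330), (4299, 8, 331), (2841, 7, 332), (6162, 7, 333), (4200, 3,
  335), (5052, 7, 335), (6510, 8, 335), (2514, 8, 336), (3243, 7, 337), (6483, 7, 338), (3360, 1, 340), (3346, 2,
  340), (6306, 7, 340), (5577, 8, 340), (3999, 8, 341), (2541, 7, 342), (5079, 7, 343), (3046, 2, 346), (5925, 7,
  346), (5196, 8, 346), (3059, 0, 347), (5992, 7, 347), (5263, 8, 347), (3768, 8, 348), (2310, 7, 349), (4608, 7,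
  350), (2996, 0, 353), (3109, 3, 353), (5902, 7, 353), (5173, 8, 353), (3671, 8, 354), (2213, 7, 355), (5882, 7,
  356), (5153, 8, 356), (3685, 8, 357), (2227, 7, 358), (4451, 7, 359), (3070, 3, 362), (5875, 7, 362), (5146, 8,
  362), (3323, 4, 363), (5969, 7, 363), (5240, 8, 363), (3698, 8, 364), (2240, 7, 365), (4390, 7, 366), (3658, 8,
  368), (2200, 7, 369), (4397, 7, 370), (2675, 0, 373), (4069, 5, 373), (5608, 7, 373), (4879, 8, 373), (3762, 4,
  374), (4842, 7, 374), (6300, 8, 374), (3465, 8, 375), (4194, 7, 376), (4260, 3, 377), (5082, 7, 377), (6540, 8,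
  377), (2544, 8, 378), (3273, 7, 379), (6513, 7, 380), (3237, 1, 382), (3173, 2, 382), (6123, 7, 382), (5394, 8,
  382), (4029, 8, 383), (2571, 7, 384), (5028, 7, 385), (4170, 1, 388), (4156, 2, 388), (4929, 7, 388), (6387, 8,
  388), (2865, 8, 389), (3594, 7, 390), (5430, 7, 391), (3397, 2, 394), (6276, 7, 394), (5547, 8, 394), (3329, 0,
  395), (6262, 7, 395), (5533, 8, 395), (4119, 8, 396), (2661, 7, 397), (4728, 7, 398), (3029, 0, 401), (3139, 3,
  401), (5962, 7, 401), (5233, 8, 401), (3738, 8, 402), (2280, 7, 403), (5975, 7, 404), (5246, 8, 404), (3805, 8,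
  405), (2347, 7, 406), (4497, 7, 407), (3119, 3, 410), (5912, 7, 410), (5183, 8, 410), (3487, 4, 411), (6025, 7,
  411), (5296, 8, 411), (3715, 8, 412), (2257, 7, 413), (4400, 7, 414), (3695, 8, 416), (2237, 7, 417), (4414, 7,
  418), (3033, 2, 421), (3340, 4, 421), (5986, 7, 421), (5257, 8, 421), (3688, 8, 422), (2230, 7, 423), (4133, 5,
  424), (6239, 7, 424), (5510, 8, 424), (3782, 8, 425), (2324, 7, 426), (4427, 7, 427), (4387, 7, 430), (4052, 5,
  433), (5591, 7, 433), (4862, 8, 433), (3799, 4, 434), (4798, 7, 434), (6256, 8, 434), (3421, 8, 435), (4150, 7,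
  436), (3882, 3, 437), (4491, 7, 437), (5949, 8, 437), (2655, 8, 438), (3384, 7, 439), (6381, 7, 440), (4290, 1,
  442), (4226, 2, 442), (4989, 7, 442), (6447, 8, 442), (2895, 8, 443), (3624, 7, 444), (5460, 7, 445), (3203, 2,
  448), (6153, 7, 448), (5424, 8, 448), (3163, 0, 449), (6089, 7, 449), (5360, 8, 449), (3936, 8, 450), (2478, 7,
  451), (4758, 7, 452), (4207, 2, 455), (4899, 7, 455), (6357, 8, 455), (4139, 0, 456), (4885, 7, 456), (6343, 8,
  456), (2742, 8, 457), (3471, 7, 458), (5781, 7, 459), (3380, 0, 462), (3277, 3, 462), (6313, 7, 462), (5584, 8,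
  462), (4089, 8, 463), (2631, 7, 464), (6245, 7, 465), (5516, 8, 465), (4075, 8, 466), (2617, 7, 467), (4848, 7,
  468), (3149, 3, 471), (5945, 7, 471), (5216, 8, 471), (3517, 4, 472), (6055, 7, 472), (5326, 8, 472), (3775, 8,
  473), (2317, 7, 474), (4467, 7, 475), (3788, 8, 477), (2330, 7, 478), (4534, 7, 479), (3153, 2, 482), (3497, 4,
  482), (6035, 7, 482), (5306, 8, 482), (3725, 8, 483), (2267, 7, 484), (2434, 5, 485), (6403, 7, 485), (5674, 8,
  485), (3838, 8, 486), (2380, 7, 487), (4444, 7, 488), (4424, 7, 491), (5220, 8, 494), (5527, 8, 495), (2341, 7,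
  497), (4417, 7, 498), (6320, 8, 500), (2594, 7, 502), (4511, 7, 503), (4781, 7, 507), (3404, 8, 508), (4528, 7,
  510), (2611, 8, 511), (6337, 7, 513), (3831, 1, 515), (3848, 2, 515), (4611, 7, 515), (6069, 8, 515), (2304, 8,
  516), (5571, 7, 518), (4256, 2, 521), (5019, 7, 521), (6477, 8, 521), (4216, 0, 522), (4955, 7, 522), (6413, 8,
  522), (2802, 8, 523), (3531, 7, 524), (5811, 7, 525), (3193, 0, 528), (3314, 3, 528), (6119, 7, 528), (5390, 8,
  528), (3966, 8, 529), (2508, 7, 530), (6079, 7, 531), (5350, 8, 531), (3902, 8, 532), (2444, 7, 533), (4665, 7,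
  534), (4190, 0, 537), (4330, 3, 537), (4936, 7, 537), (6394, 8, 537), (2712, 8, 538), (3441, 7, 539), (4868, 7,
  540), (6326, 8, 540), (2698, 8, 541), (3427, 7, 542), (5658, 7, 543), (3287, 3, 546), (6296, 7, 546), (5567, 8,
  546), (3628, 4, 547), (6193, 7, 547), (5464, 8, 547), (4126, 8, 548), (2668, 7, 549), (4818, 7, 550), (4058, 8,
  552), (2600, 7, 553), (4804, 7, 554), (3102, 2, 557), (3527, 4, 557), (6065, 7, 557), (5336, 8, 557), (3758, 8,
  558), (2300, 7, 559), (2464, 5, 560), (6433, 7, 560), (5704, 8, 560), (3868, 8, 561), (2410, 7, 562), (4504, 7,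
  563), (4517, 7, 566), (5340, 8, 569), (5684, 8, 570), (2390, 7, 572), (4454, 7, 573), (4621, 8, 575), (2758, 7,
  577), (4567, 7, 578), (3878, 2, 594), (4560, 7, 594), (6018, 8, 594), (4577, 7, 595), (2424, 8, 596), (4246, 0,
  600), (4367, 3, 600), (4985, 7, 600), (6443, 8, 600), (2832, 8, 601), (3561, 7, 602), (4945, 7, 603), (2768, 8,
  604), (5718, 7, 606), (3304, 3, 609), (6109, 7, 609), (5380, 8, 609), (3584, 4, 610), (6230, 7, 610), (5501, 8,
  610), (3932, 8, 611), (2474, 7, 612), (4695, 7, 613), (3892, 8, 615), (4631, 7, 617), (4340, 3, 620), (4919, 7,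
  620), (6377, 8, 620), (3979, 4, 621), (5059, 7, 621), (6517, 8, 621), (2749, 8, 622), (3478, 7, 623), (5628, 7,
  624), (2681, 8, 626), (3410, 7, 627), (5614, 7, 628), (3250, 2, 631), (3638, 4, 631), (6203, 7, 631), (5474, 8,
  631), (4109, 8, 632), (2651, 7, 633), (2575, 5, 634), (6544, 7, 634), (5815, 8, 634), (4006, 8, 635), (2548, 7,
  636), (4855, 7, 637), (4787, 7, 640), (5289, 8, 643), (5714, 8, 644), (2420, 7, 646), (4487, 7, 647), (4651, 8,
  649), (2788, 7, 651), (4597, 7, 652), (4607, 7, 663), (2373, 8, 664), (4357, 3, 668), (4975, 7, 668), (4016, 4,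
  669), (5096, 7, 669), (6554, 8, 669), (2798, 8, 670), (5748, 7, 672), (3260, 2, 677), (3574, 4, 677), (6220, 7,
  677), (5491, 8, 677), (3922, 8, 678), (2531, 5, 680), (6500, 7, 680), (5771, 8, 680), (4043, 8, 681), (2585, 7,
  682), (4661, 7, 683), (4303, 2, 688), (3989, 4, 688), (5069, 7, 688), (6527, 8, 688), (2732, 8, 689), (3461, 7,
  690), (2845, 5, 691), (4708, 7, 691), (6166, 8, 691), (2872, 8, 692), (3601, 7, 693), (5665, 7, 694), (5597, 7,
  697), (5437, 8, 700), (5825, 8, 701), (2558, 7, 703), (4838, 7, 704), (4762, 8, 706), (2899, 7, 708), (4735, 7,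
  709), (4313, 2, 722), (5086, 7, 722), (2882, 5, 724), (4745, 7, 724), (2909, 8, 725), (3611, 4, 729), (6176, 7,
  729), (5447, 8, 729), (2521, 5, 730), (6490, 7, 730), (5761, 8, 730), (4033, 8, 731), (4718, 8, 734), (2855, 7,
  736), (4772, 7, 737), (5032, 7, 740), (5648, 7, 744), (5788, 7, 749), (5042, 7, 760), (5798, 7, 762)]

/-- the matrix of the neighbours (with the diagonal) -/
def Bm : List (List ℕ) := [[1, 0, 1, 0, 0, 0, 0, 0], [0, 1, 0, 1, 0, 0, 0, 0], [1, 0, 1, 1, 0, 0, 0, 0], [0, 1, 1, 1, 1, 0, 0, 0], [0, 0, 0, 1, 1, 1, 0, 0], [0, 0, 0, 0, 1, 1, 1, 0], [0, 0, 0, 0, 0, 1, 1, 1], [0, 0, 0, 0, 0, 0, 1, 1]]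

/-- the word of the reflection in the highest root -/
def wt : List ℕ := [7, 6, 5, 4, 3, 1, 2, 0, 3, 2, 4, 3, 1, 5, 4, 3, 2, 0, 6, 5, 4, 3, 1, 2, 3, 4, 5, 6, 7, 6, 5, 4, 3, 2, 1, 3, 4, 5, 6, 0, 2, 3, 4, 5, 1, 3, 4, 2, 3, 0, 2, 1, 3, 4, 5, 6, 7]

end Cfsg.Agent.H251.L34.PureTab
end

-- part: H251/L34/Pure
section
/-!
# S5917: the pure pairs of `E₈ / 3 E₈` (helper251)

`nz v` : the number of the roots with value zero.  `pure_pair` : if `a, b, a + b, a - b` have 78 zeros (type `E₆A₂`), a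
product of simple reflections maps `(a, b)` to `(V1, V2)` (common roots `A₂⁴`) or to `(V1, V3)` (common roots `D₄`).
-/

set_option autoImplicit false
set_option linter.unusedSectionVars false
set_option maxRecDepth 100000

namespace Cfsg.Agent.H251.L34

open Cfsg.Agent.ChevalleyStructure.CoxeterGeom Cfsg.Agent.Tits.Roots
  Cfsg.Agent.Nodes.RGDChev
open Cfsg.Lie Cfsg.Agent.ChevalleyStructure Cfsg.Agent.ChevalleyStructure.Elts
  Cfsg.Agent.ChevalleyStructure.RootVec Cfsg.Agent.ChevalleyStructure.RootVecTab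
  Cfsg.Agent.ChevalleyStructure.NPerm Cfsg.Agent.ChevalleyStructure.CoxeterGeomTypes
open Cfsg.Agent.H944.RootVals Cfsg.Agent.H944.Kac Cfsg.Agent.H944.Tab Cfsg.Agent.H943.E8Tab
open Cfsg.Agent.H201.L34 (V1 V2)
open PureTab

/-- the representative of the second orbit (common roots `D₄`) -/
def V3 : Fin 8 → ZMod 3 := ![1, 0, 0, 0, 0, 1, 0, 1]

/-- the number of the roots with value zero -/
def nz (v : Fin 8 → ZMod 3) : ℕ := (ms chevE8 8 v).count 0

/-- the product of simple reflections -/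
def wd (L : List (Fin 8)) (v : Fin 8 → ZMod 3) : Fin 8 → ZMod 3 := L.foldr (fun j v => srefl chevE8 8 j v) v

theorem wd_cons (j : Fin 8) (L : List (Fin 8)) (v : Fin 8 → ZMod 3) : wd (j :: L) v = srefl chevE8 8 j (wd L v) := rfl

theorem wd_append (L L' : List (Fin 8)) (v : Fin 8 → ZMod 3) : wd (L ++ L') v = wd L (wd L' v) := by
  unfold wd
  rw [List.foldr_append]

theorem ms_wd (L : List (Fin 8)) (v : Fin 8 → ZMod 3) : ms chevE8 8 (wd L v) = ms chevE8 8 v := by
  induction L with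
  | nil => rfl
  | cons j L ih => rw [wd_cons, ms_srefl e8T, ih]

theorem nz_wd (L : List (Fin 8)) (v : Fin 8 → ZMod 3) : nz (wd L v) = nz v := by
  unfold nz
  rw [ms_wd]

/-- a simple reflection as a linear map -/
def sl (j : Fin 8) : (Fin 8 → ZMod 3) →ₗ[ZMod 3] (Fin 8 → ZMod 3) where
  toFun := srefl chevE8 8 j
  map_add' u v := by
    funext i
    unfold srefl
    simp only [Pi.add_apply]
    ring
  map_smul' c v := by
    funext i
    unfold srefl
    simp only [Pi.smul_apply, smul_eq_mul, RingHom.id_apply]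
    ring

/-- a product of simple reflections as a linear map -/
def wl : List (Fin 8) → (Fin 8 → ZMod 3) →ₗ[ZMod 3] (Fin 8 → ZMod 3)
  | [] => LinearMap.id
  | j :: L => (sl j).comp (wl L)

theorem wl_apply (L : List (Fin 8)) (v : Fin 8 → ZMod 3) : wl L v = wd L v := by
  induction L with
  | nil => rfl
  | cons j L ih => rw [wl, LinearMap.comp_apply, ih]; rfl

theorem wd_add (L : List (Fin 8)) (u v : Fin 8 → ZMod 3) : wd L (u + v) = wd L u + wd L v := by
  rw [← wl_apply, map_add, wl_apply, wl_apply]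

theorem wd_sub (L : List (Fin 8)) (u v : Fin 8 → ZMod 3) : wd L (u - v) = wd L u - wd L v := by
  rw [← wl_apply, map_sub, wl_apply, wl_apply]

/-- a simple reflection on lists -/
def act (j : ℕ) (x : List ℕ) : List ℕ :=
  (List.range 8).map fun i => (x.getD i 0 + (Bm.getD j []).getD i 0 * x.getD j 0) % 3

private noncomputable def _root_.Cfsg.Agent.LsF.ff4622d_0 : {f // @Cfsg.Lie.ChevalleyDatum.cartan = f} := ⟨_, by first | (delta Cfsg.Lie.ChevalleyDatum.cartan; rewrite [Cfsg.Agent.LsF.agetD_eq]; exact rfl) | exact rfl⟩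
private noncomputable def _root_.Cfsg.Agent.LsF.ff4622d_1 : {f // @Cfsg.Lie.ChevalleyDatum.simple = f} := ⟨_, by first | (delta Cfsg.Lie.ChevalleyDatum.simple; rewrite [Cfsg.Agent.LsF.agetD_eq]; exact rfl) | exact rfl⟩
private noncomputable def _root_.Cfsg.Agent.LsF.ff4622d_2 : {f // @Cfsg.Agent.ChevalleyStructure.CoxeterGeomTypes.cartanOf = f} := ⟨_, by first | (delta Cfsg.Agent.ChevalleyStructure.CoxeterGeomTypes.cartanOf; rewrite [Cfsg.Agent.LsF.ff4622d_0.2, Cfsg.Agent.LsF.ff4622d_1.2]; exact rfl) | exact rfl⟩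
theorem bm_eq : ∀ i j : Fin 8, ((cartanOf chevE8 8 j i : ℤ) : ZMod 3) = -(((Bm.getD j []).getD i 0 : ℕ) : ZMod 3) := by
  (refine of_decide_eq_true ?_; (try (rewrite [Cfsg.Agent.LsF.ff4622d_2.2, Cfsg.Agent.LsF.zneg_pat, Cfsg.Agent.LsF.zcast_pat, Cfsg.Agent.LsF.zdecEq_eq, Cfsg.Agent.LsF.getD_eq, Cfsg.Agent.LsF.dForallFin_eq, Cfsg.Agent.LsF.decide_eq])); decide +kernel)

theorem getD_map_range (f : ℕ → ℕ) (i : Fin 8) : ((List.range 8).map f).getD i 0 = f i := by
  rw [List.getD_eq_getElem _ _ (by rw [List.length_map, List.length_range]; exact i.2), List.getElem_map,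
    List.getElem_range]

theorem vecOf_act (j : Fin 8) (x : List ℕ) : vecOf 3 (act j x) = srefl chevE8 8 j (vecOf 3 x) := by
  funext i
  unfold vecOf srefl act
  rw [getD_map_range, bm_eq, ZMod.natCast_mod]
  push_cast
  ring

/-- the reflection in the highest root on lists -/
def tht (x : List ℕ) : List ℕ :=
  (List.range 8).map fun i => (x.getD i 0 + [0, 0, 0, 0, 0, 0, 0, 2].getD i 0 * dotN th8 x) % 3

/-- the word of the reflection in the highest root -/
def wt8 : List (Fin 8) := wt.map fun n => Fin.ofNat 8 n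

/-- the unit vectors -/
def unt (k : ℕ) : List ℕ := (List.range 8).map fun i => if i = k then 1 else 0

private noncomputable def _root_.Cfsg.Agent.LsF.ff4622d_3 : {f // @Cfsg.Agent.H251.L34.act = f} := ⟨_, by first | (delta Cfsg.Agent.H251.L34.act; rewrite [Cfsg.Agent.LsF.nadd_pat, Cfsg.Agent.LsF.nmul_pat, Cfsg.Agent.LsF.nmod_pat, Cfsg.Agent.LsF.map_eq, Cfsg.Agent.LsF.range_eq, Cfsg.Agent.LsF.getD_eq]; exact rfl) | exact rfl⟩
private noncomputable def _root_.Cfsg.Agent.LsF.ff4622d_4 : {f // @Cfsg.Agent.H251.L34.unt = f} := ⟨_, by first | (delta Cfsg.Agent.H251.L34.unt; rewrite [Cfsg.Agent.LsF.instDecEq_eq, Cfsg.Agent.LsF.map_eq, Cfsg.Agent.LsF.range_eq, Cfsg.Agent.LsF.ite_eq]; exact rfl) | exact rfl⟩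
private noncomputable def _root_.Cfsg.Agent.LsF.ff4622d_5 : {f // @Cfsg.Agent.H944.Tab.dotN = f} := ⟨_, by first | (delta Cfsg.Agent.H944.Tab.dotN List.brecOn List.brecOn.go Cfsg.Agent.H944.Tab.dotN._f; rewrite [Cfsg.Agent.LsF.nadd_pat, Cfsg.Agent.LsF.nmul_pat]; (try delta Cfsg.Agent.H944.Tab.dotN.match_1); (try delta Cfsg.Agent.H944.Tab.dotN._sparseCasesOn_1); first | dsimp -zeta only | exact rfl) | exact rfl⟩
private noncomputable def _root_.Cfsg.Agent.LsF.ff4622d_6 : {f // @Cfsg.Agent.H251.L34.tht = f} := ⟨_, by first | (delta Cfsg.Agent.H251.L34.tht; rewrite [Cfsg.Agent.LsF.ff4622d_5.2, Cfsg.Agent.LsF.nadd_pat, Cfsg.Agent.LsF.nmul_pat, Cfsg.Agent.LsF.nmod_pat, Cfsg.Agent.LsF.map_eq, Cfsg.Agent.LsF.range_eq, Cfsg.Agent.LsF.getD_eq]; exact rfl) | exact rfl⟩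
theorem wt_unt : ((List.range 8).all fun k => wt.foldr act (unt k) == tht (unt k)) = true := by ((try (rewrite [Cfsg.Agent.LsF.ff4622d_3.2, Cfsg.Agent.LsF.ff4622d_4.2, Cfsg.Agent.LsF.ff4622d_6.2, Cfsg.Agent.LsF.instNBEq_pat, Cfsg.Agent.LsF.all_eq, Cfsg.Agent.LsF.foldr_eq, Cfsg.Agent.LsF.range_eq, Cfsg.Agent.LsF.instBEq_eq])); decide +kernel)

theorem vecOf_foldr (L : List ℕ) (hL : ∀ j ∈ L, j < 8) (x : List ℕ) :
    vecOf 3 (L.foldr act x) = wd (L.map fun n => Fin.ofNat 8 n) (vecOf 3 x) := by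
  induction L with
  | nil => rfl
  | cons j L ih =>
    have hj : j < 8 := hL j (by simp)
    have e : ((Fin.ofNat 8 j : Fin 8) : ℕ) = j := by simp [Fin.ofNat, Nat.mod_eq_of_lt hj]
    rw [List.foldr_cons, List.map_cons, wd_cons, ← ih fun k hk => hL k (by simp [hk]), ← vecOf_act, e]

/-- the reflection in the highest root -/
def thl : (Fin 8 → ZMod 3) →ₗ[ZMod 3] (Fin 8 → ZMod 3) where
  toFun v := fun i => v i + ((([0, 0, 0, 0, 0, 0, 0, 2].getD i 0 : ℕ) : ZMod 3)) * dotF th8 v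
  map_add' u v := by
    funext i
    unfold dotF
    simp only [Pi.add_apply, mul_add, Finset.sum_add_distrib]
    ring
  map_smul' c v := by
    funext i
    unfold dotF
    simp only [Pi.smul_apply, smul_eq_mul, RingHom.id_apply]
    have h : ∀ j : Fin 8, ((th8.getD j 0 : ℕ) : ZMod 3) * (c * v j) = c * (((th8.getD j 0 : ℕ) : ZMod 3) * v j) :=
      fun j => by ring
    simp only [h]
    rw [← Finset.mul_sum]
    ring

theorem vecOf_tht (x : List ℕ) : vecOf 3 (tht x) = thl (vecOf 3 x) := by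
  funext i
  show ((((List.range 8).map fun i => _).getD i 0 : ℕ) : ZMod 3) = _ + _ * dotF th8 (vecOf 3 x)
  rw [dotF_vecOf (by decide), getD_map_range, ZMod.natCast_mod]
  unfold vecOf
  push_cast
  ring

theorem vecOf_unt (k : Fin 8) : vecOf 3 (unt k) = Pi.single k 1 := by
  funext i
  unfold vecOf unt
  rw [getD_map_range]
  by_cases h : i = k
  · subst h; simp
  · rw [if_neg (fun h' => h (Fin.ext h')), Pi.single_eq_of_ne h]; simp

theorem wl_wt8 : wl wt8 = thl := by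
  refine (Pi.basisFun (ZMod 3) (Fin 8)).ext fun k => ?_
  rw [Pi.basisFun_apply, ← vecOf_unt, wl_apply, ← vecOf_tht]
  have h := wt_unt
  rw [List.all_eq_true] at h
  have h1 := h k (List.mem_range.2 k.2)
  rw [beq_iff_eq] at h1
  rw [← h1, vecOf_foldr _ (by decide)]
  rfl

/-- the generators of the stabiliser of `V1` on lists -/
def gen (g : ℕ) (x : List ℕ) : List ℕ := if g < 8 then act g x else tht x

theorem vecOf_gen {g : ℕ} (x : List ℕ) : ∃ L : List (Fin 8), vecOf 3 (gen g x) = wd L (vecOf 3 x) ∧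
    ∀ y : List ℕ, vecOf 3 (gen g y) = wd L (vecOf 3 y) := by
  by_cases hg : g < 8
  · refine ⟨[⟨g, hg⟩], ?_, fun y => ?_⟩
    · rw [gen, if_pos hg]; exact vecOf_act ⟨g, hg⟩ x
    · rw [gen, if_pos hg]; exact vecOf_act ⟨g, hg⟩ y
  · refine ⟨wt8, ?_, fun y => ?_⟩
    · rw [gen, if_neg hg, vecOf_tht, ← wl_wt8, wl_apply]
    · rw [gen, if_neg hg, vecOf_tht, ← wl_wt8, wl_apply]

/-- the digits of a code -/
def dg (c : ℕ) : List ℕ := [c % 3, c / 3 % 3, c / 9 % 3, c / 27 % 3, c / 81 % 3, c / 243 % 3, c / 729 % 3, c / 2187 % 3]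

/-- the entry `k` of the table -/
def ent (k : ℕ) : ℕ × ℕ × ℕ := tab.getD k (0, 0, 0)

/-- the check of one entry -/
def chk1 (k : ℕ) : Bool :=
  let e := ent k
  if e.2.1 = 9 then e.1 == 1485 || e.1 == 2431
  else Nat.blt e.2.2 k && (gen e.2.1 (dg e.1) == dg (ent e.2.2).1) && (gen e.2.1 (dg 729) == dg 729)

private noncomputable def fG {α : Type} (x : ℕ) (f : ℕ → α) : α := Nat.rec (f 0) (fun n _ => f (Nat.succ n)) x

private theorem fG_eq {α : Type} (x : ℕ) (f : ℕ → α) : fG x f = f x := by cases x <;> rfl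

private noncomputable def dr {α : Type} (l : List α) (k : ℕ) : List α := Nat.rec l (fun _ ih => ih.tail) k

private theorem dr_eq {α : Type} (l : List α) (k : ℕ) (d : α) : l.getD k d = (dr l k).headD d := by
  have h : dr l k = l.drop k := by
    induction k with
    | zero => rfl
    | succ k ih => exact (congrArg List.tail ih).trans (List.tail_drop ..)
  rw [h, List.headD_eq_head?_getD, List.head?_drop, List.getD_eq_getElem?_getD]

private def ac (b : List ℕ) (y : ℕ) (x : List ℕ) : List ℕ :=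
  List.zipWith (fun u v => Nat.mod (Nat.add u (Nat.mul v y)) 3) x b

private noncomputable def _root_.Cfsg.Agent.LsF.ff4622d_7 : {f // @Cfsg.Agent.H251.L34.dr = f} := ⟨_, by first | (delta Cfsg.Agent.H251.L34.dr; rewrite [Cfsg.Agent.LsF.tail_eq]; exact rfl) | exact rfl⟩
private noncomputable def _root_.Cfsg.Agent.LsF.ff4622d_8 : {f // @Cfsg.Agent.H251.L34.ac = f} := ⟨_, by first | (delta Cfsg.Agent.H251.L34.ac; rewrite [Cfsg.Agent.LsF.zipWith_eq]; exact rfl) | exact rfl⟩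
private noncomputable def _root_.Cfsg.Agent.LsF.ff4622d_9 : {f // @Cfsg.Agent.H251.L34.dg = f} := ⟨_, by first | (delta Cfsg.Agent.H251.L34.dg; rewrite [Cfsg.Agent.LsF.ndiv_pat, Cfsg.Agent.LsF.nmod_pat]; exact rfl) | exact rfl⟩
theorem chk1_tab : ((List.range 780).all chk1) = true := by
  have h1 : ent = fun k => fG k fun k => (dr tab k).headD (0, 0, 0) := by
    funext k
    rw [fG_eq, ← dr_eq]
    rfl
  have h2 : ∀ g c, gen g (dg c) = fG g fun g => bif Nat.blt g 8 then ac (Bm.getD g []) ((dg c).getD g 0) (dg c)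
      else ac [0, 0, 0, 0, 0, 0, 0, 2] (dotN th8 (dg c)) (dg c) := fun g c => by
    rw [fG_eq]
    delta gen
    by_cases h : g < 8
    · rw [if_pos h, Nat.blt_eq.mpr h]
      interval_cases g <;> rfl
    · rw [if_neg h, Bool.eq_false_iff.2 fun h' => h (Nat.blt_eq.mp h')]
      rfl
  have h3 : chk1 = fun k => (fun e : ℕ × ℕ × ℕ => if e.2.1 = 9 then e.1 == 1485 || e.1 == 2431 else Nat.blt e.2.2 k &&
      (gen e.2.1 (dg e.1) == dg (ent e.2.2).1) && (gen e.2.1 (dg 729) == dg 729)) (ent k) := rfl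
  rw [h3]
  simp only [h2]
  rw [h1]
  ((try (rewrite [Cfsg.Agent.LsF.ff4622d_7.2, Cfsg.Agent.LsF.ff4622d_8.2, Cfsg.Agent.LsF.ff4622d_9.2, Cfsg.Agent.LsF.ff4622d_5.2, Cfsg.Agent.LsF.nbeq_pat, Cfsg.Agent.LsF.instNBEq_pat, Cfsg.Agent.LsF.and_eq, Cfsg.Agent.LsF.or_eq, Cfsg.Agent.LsF.cond_eq, Cfsg.Agent.LsF.instDecEq_eq, Cfsg.Agent.LsF.all_eq, Cfsg.Agent.LsF.range_eq, Cfsg.Agent.LsF.getD_eq, Cfsg.Agent.LsF.headD_eq, Cfsg.Agent.LsF.instBEq_eq, Cfsg.Agent.LsF.ite_eq])); decide +kernel)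

theorem V1_dg : vecOf 3 (dg 729) = V1 := by decide +kernel

theorem V2_dg : vecOf 3 (dg 1485) = V2 := by decide +kernel

theorem V3_dg : vecOf 3 (dg 2431) = V3 := by decide +kernel

theorem walk (k : ℕ) : k < 780 → ∃ L : List (Fin 8), wd L V1 = V1 ∧
    (wd L (vecOf 3 (dg (ent k).1)) = V2 ∨ wd L (vecOf 3 (dg (ent k).1)) = V3) := by
  induction k using Nat.strong_induction_on with
  | _ k ih =>
    intro hk
    have h := chk1_tab
    rw [List.all_eq_true] at h
    have h1 := h k (List.mem_range.2 hk)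
    unfold chk1 at h1
    by_cases h9 : (ent k).2.1 = 9
    · simp only [h9, if_true, Bool.or_eq_true, beq_iff_eq] at h1
      refine ⟨[], rfl, ?_⟩
      rcases h1 with h1 | h1
      · left; rw [h1]; exact V2_dg
      · right; rw [h1]; exact V3_dg
    · simp only [h9, if_false, Bool.and_eq_true, beq_iff_eq] at h1
      obtain ⟨⟨h2, h3⟩, h4⟩ := h1
      have h2' : (ent k).2.2 < k := (Nat.blt_eq ..).mp h2
      obtain ⟨L, hL1, hL2⟩ := ih _ h2' (by omega)
      obtain ⟨L', hL', hL''⟩ := vecOf_gen (g := (ent k).2.1) (dg (ent k).1)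
      refine ⟨L ++ L', ?_, ?_⟩
      · have := hL'' (dg 729)
        rw [h4, V1_dg] at this
        rw [wd_append, ← this, hL1]
      · rw [wd_append, ← hL', h3]
        exact hL2

/-! ### the quadratic form -/

/-- the quadratic form of `E₈` on the values on the simple roots -/
def Q (v : Fin 8 → ZMod 3) : ZMod 3 :=
  2 * v 0 * v 0 + 4 * v 1 * v 1 + 7 * v 2 * v 2 + 15 * v 3 * v 3 + 10 * v 4 * v 4 + 6 * v 5 * v 5 + 3 * v 6 * v 6 +
    v 7 * v 7 +
  (5 * v 1 + 7 * v 2 + 10 * v 3 + 8 * v 4 + 6 * v 5 + 4 * v 6 + 2 * v 7) * v 0 +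
  (10 * v 2 + 15 * v 3 + 12 * v 4 + 9 * v 5 + 6 * v 6 + 3 * v 7) * v 1 +
  (20 * v 3 + 16 * v 4 + 12 * v 5 + 8 * v 6 + 4 * v 7) * v 2 +
  (24 * v 4 + 18 * v 5 + 12 * v 6 + 6 * v 7) * v 3 + (15 * v 5 + 10 * v 6 + 5 * v 7) * v 4 + (8 * v 6 + 4 * v 7) * v 5 +
  3 * v 7 * v 6

/-- the scalar product with `V1` -/
def ln (v : Fin 8 → ZMod 3) : ZMod 3 :=
  4 * v 0 + 6 * v 1 + 8 * v 2 + 12 * v 3 + 10 * v 4 + 8 * v 5 + 6 * v 6 + 3 * v 7

/-- the Cartan matrix -/
def CM : Fin 8 → Fin 8 → ℤ := ![![2, 0, -1, 0, 0, 0, 0, 0], ![0, 2, 0, -1, 0, 0, 0, 0], ![-1, 0, 2, -1, 0, 0, 0, 0],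
  ![0, -1, -1, 2, -1, 0, 0, 0], ![0, 0, 0, -1, 2, -1, 0, 0], ![0, 0, 0, 0, -1, 2, -1, 0], ![0, 0, 0, 0, 0, -1, 2, -1],
  ![0, 0, 0, 0, 0, 0, -1, 2]]

private noncomputable def _root_.Cfsg.Agent.LsF.ff4622d_10 : {f // @Cfsg.Agent.H251.L34.CM = f} := ⟨_, by first | (delta Cfsg.Agent.H251.L34.CM; rewrite [Cfsg.Agent.LsF.ineg_pat, Cfsg.Agent.LsF.vecCons_eq]; exact rfl) | exact rfl⟩
theorem cm : ∀ i j : Fin 8, cartanOf chevE8 8 i j = CM i j := by (refine of_decide_eq_true ?_; (try (rewrite [Cfsg.Agent.LsF.ff4622d_2.2, Cfsg.Agent.LsF.ff4622d_10.2, Cfsg.Agent.LsF.instIDecEq_eq, Cfsg.Agent.LsF.dForallFin_eq, Cfsg.Agent.LsF.decide_eq])); decide +kernel)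

theorem srefl_CM (j : Fin 8) (v : Fin 8 → ZMod 3) (i : Fin 8) : srefl chevE8 8 j v i = v i - (CM j i : ZMod 3) * v j := by
  unfold srefl
  rw [cm]

theorem Q_srefl (j : Fin 8) (v : Fin 8 → ZMod 3) : Q (srefl chevE8 8 j v) = Q v := by
  unfold Q
  simp only [srefl_CM]
  fin_cases j <;> simp only [Fin.isValue, CM, Int.reduceNeg, Fin.zero_eta, Matrix.cons_val', Matrix.cons_val_zero,
      Matrix.cons_val_fin_one, Int.cast_ofNat, Matrix.cons_val_one, Int.cast_zero, zero_mul, sub_zero, Matrix.cons_val,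
      Int.cast_neg, Int.cast_one, neg_mul, one_mul, sub_neg_eq_add, add_left_inj, Fin.mk_one, Fin.reduceFinMk] <;> ring

theorem Q_wd (L : List (Fin 8)) (v : Fin 8 → ZMod 3) : Q (wd L v) = Q v := by
  induction L with
  | nil => rfl
  | cons j L ih => rw [wd_cons, Q_srefl, ih]

theorem Q_add (v : Fin 8 → ZMod 3) : Q (V1 + v) = Q V1 + Q v + ln v := by
  unfold Q ln V1
  simp only [Pi.add_apply]
  simp only [Fin.isValue, Matrix.cons_val_zero, zero_add, Matrix.cons_val_one, Matrix.cons_val, mul_zero, add_zero, mul_one]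
  ring

theorem alc3 : allAlc th8 3 (fun y => (y == [0, 0, 0, 0, 0, 0, 0, 0] || y == [1, 0, 0, 0, 0, 0, 0, 0] ||
    y == [0, 1, 0, 0, 0, 0, 0, 0] || y == [0, 0, 0, 0, 0, 0, 1, 0] || y == [0, 0, 0, 0, 0, 0, 0, 1])) = true := by
  decide +kernel

theorem nz_vecOf (Y : List ℕ) : nz (vecOf 3 Y) = (R8.map fun r => (if ((dotN r Y : ℕ) : ZMod 3) = 0 then 1 else 0) +
    (if -((dotN r Y : ℕ) : ZMod 3) = 0 then 1 else 0)).sum := by
  unfold nz
  rw [count_eq_sum, sum_vecOf]

theorem nz_a : nz (vecOf 3 [0, 0, 0, 0, 0, 0, 0, 0]) = 240 := by rw [nz_vecOf]; decide +kernel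
theorem nz_b : nz (vecOf 3 [1, 0, 0, 0, 0, 0, 0, 0]) = 84 := by rw [nz_vecOf]; decide +kernel
theorem nz_c : nz (vecOf 3 [0, 1, 0, 0, 0, 0, 0, 0]) = 72 := by rw [nz_vecOf]; decide +kernel
theorem nz_d : nz (vecOf 3 [0, 0, 0, 0, 0, 0, 0, 1]) = 126 := by rw [nz_vecOf]; decide +kernel

/-- **a vector with 78 zeros is conjugate to `V1`** -/
theorem exists_V1 {v : Fin 8 → ZMod 3} (hv : nz v = 78) : ∃ L, wd L v = V1 := by
  obtain ⟨Y, hYl, hYθ, L, hL⟩ := alcove8 (N := 3) (by norm_num) (fun w => ∃ L, wd L v = w)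
    (fun w j ⟨L, h⟩ => ⟨j :: L, by rw [wd_cons, h]⟩) (v₀ := v) ⟨[], rfl⟩
  have h1 := allAlc_spec th8 3 _ (by decide) alc3 Y hYl hYθ
  simp only [Bool.or_eq_true, beq_iff_eq] at h1
  have h2 : nz (vecOf 3 Y) = 78 := by rw [← hL, nz_wd, hv]
  rcases h1 with (((h1 | h1) | h1) | h1) | h1
  · rw [h1, nz_a] at h2; omega
  · rw [h1, nz_b] at h2; omega
  · rw [h1, nz_c] at h2; omega
  · refine ⟨L, ?_⟩
    rw [hL, h1]
    decide +kernel
  · rw [h1, nz_d] at h2; omega

theorem Q_V1 : Q V1 = 0 := by decide +kernel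

theorem Q_of_nz {v : Fin 8 → ZMod 3} (hv : nz v = 78) : Q v = 0 := by
  obtain ⟨L, hL⟩ := exists_V1 hv
  rw [← Q_wd L, hL, Q_V1]

/-! ### the covering -/

/-- the quadratic form on lists -/
def qN : List ℕ → ℕ
  | [a, b, c, d, e, f, g, h] => (2 * a * a + b * b + c * c + e * e + h * h + (2 * b + c + d + 2 * e + g + 2 * h) * a +
      c * b + (2 * d + e + 2 * g + h) * c + (g + 2 * h) * e + (2 * g + h) * f) % 3
  | _ => 0

/-- the scalar product with `V1` on lists -/
def lN : List ℕ → ℕ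
  | [a, _, c, _, e, f, _, _] => (a + 2 * c + e + 2 * f) % 3
  | _ => 0

/-- the code of a list -/
def cd : List ℕ → ℕ
  | [a, b, c, d, e, f, g, h] => a + 3 * b + 9 * c + 27 * d + 81 * e + 243 * f + 729 * g + 2187 * h
  | _ => 0

/-- the check of one list -/
def cov (x : List ℕ) : Bool :=
  !(Nat.beq (lN x) 0) || !(Nat.beq (qN x) 0) || Nat.beq (cd x) 0 || Nat.beq (cd x) 729 || Nat.beq (cd x) 1458 ||
    tab.any fun e => Nat.beq e.1 (cd x)

private noncomputable def mk (l : List (ℕ × ℕ × ℕ)) : ℕ := List.rec 0 (fun e _ ih => Nat.lor ih (Nat.shiftLeft 1 e.1)) l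

theorem cov_all : allLt 3 8 cov = true := by
  have h1 : ∀ (s : ℕ) (l : List (ℕ × ℕ × ℕ)), (l.any fun e => Nat.beq e.1 s) = (mk l).testBit s := fun s l => by
    induction l with
    | nil => exact (Nat.zero_testBit s).symm
    | cons e l ih =>
      show _ = (mk l ||| 1 <<< e.1).testBit s
      rw [List.any_cons, ih, Nat.testBit_or, Nat.one_shiftLeft, Nat.testBit_two_pow, Bool.or_comm]
      exact congrArg _ (Bool.eq_iff_iff.2 ⟨fun h => decide_eq_true (Nat.eq_of_beq_eq_true h),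
        fun h => Nat.beq_eq.mpr (of_decide_eq_true h)⟩)
  delta cov
  simp only [h1]
  decide +kernel

/-- the list of a vector -/
def lst (b : Fin 8 → ZMod 3) : List ℕ :=
  [(b 0).val, (b 1).val, (b 2).val, (b 3).val, (b 4).val, (b 5).val, (b 6).val, (b 7).val]

theorem vecOf_lst (b : Fin 8 → ZMod 3) : vecOf 3 (lst b) = b := by
  funext i
  unfold vecOf lst
  fin_cases i <;> simp

theorem lst_lt (b : Fin 8 → ZMod 3) : ∀ x ∈ lst b, x < 3 := by
  intro x hx
  unfold lst at hx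
  simp only [List.mem_cons, List.not_mem_nil, or_false] at hx
  rcases hx with rfl | rfl | rfl | rfl | rfl | rfl | rfl | rfl <;> exact ZMod.val_lt _

theorem dg_cd {a b c d e f g h : ℕ} (ha : a < 3) (hb : b < 3) (hc : c < 3) (hd : d < 3) (he : e < 3) (hf : f < 3)
    (hg : g < 3) (hh : h < 3) : dg (cd [a, b, c, d, e, f, g, h]) = [a, b, c, d, e, f, g, h] := by
  unfold dg cd
  simp only [List.cons.injEq, and_true]
  refine ⟨?_, ?_, ?_, ?_, ?_, ?_, ?_, ?_⟩ <;> omega

theorem cast3 : (3 : ZMod 3) = 0 := by decide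

theorem lN_eq (b : Fin 8 → ZMod 3) : ((lN (lst b) : ℕ) : ZMod 3) = ln b := by
  unfold lst lN ln
  rw [ZMod.natCast_mod]
  push_cast
  simp only [ZMod.natCast_val, ZMod.cast_id', id_eq]
  linear_combination (-(b 0) - 2 * b 1 - 2 * b 2 - 4 * b 3 - 3 * b 4 - 2 * b 5 - 2 * b 6 - b 7) * cast3

theorem qN_eq (b : Fin 8 → ZMod 3) : ((qN (lst b) : ℕ) : ZMod 3) = Q b := by
  unfold lst qN Q
  rw [ZMod.natCast_mod]
  push_cast
  simp only [ZMod.natCast_val, ZMod.cast_id', id_eq]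
  linear_combination (-(b 1 * b 1 + 2 * b 2 * b 2 + 5 * b 3 * b 3 + 3 * b 4 * b 4 + 2 * b 5 * b 5 + b 6 * b 6 +
    (b 1 + 2 * b 2 + 3 * b 3 + 2 * b 4 + 2 * b 5 + b 6) * b 0 +
    (3 * b 2 + 5 * b 3 + 4 * b 4 + 3 * b 5 + 2 * b 6 + b 7) * b 1 +
    (6 * b 3 + 5 * b 4 + 4 * b 5 + 2 * b 6 + b 7) * b 2 +
    (8 * b 4 + 6 * b 5 + 4 * b 6 + 2 * b 7) * b 3 + (5 * b 5 + 3 * b 6 + b 7) * b 4 + (2 * b 6 + b 7) * b 5 +
    b 7 * b 6)) * cast3

theorem nz_zero : nz 0 = 240 := by
  have : (0 : Fin 8 → ZMod 3) = vecOf 3 [0, 0, 0, 0, 0, 0, 0, 0] := by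
    funext i
    fin_cases i <;> rfl
  rw [this, nz_a]

theorem exists_of_cov {b : Fin 8 → ZMod 3} (h0 : b ≠ 0) (h1 : b ≠ V1) (h2 : b ≠ -V1) (hq : Q b = 0) (hl : ln b = 0) :
    ∃ L : List (Fin 8), wd L V1 = V1 ∧ (wd L b = V2 ∨ wd L b = V3) := by
  have hc : cov (lst b) = true := allLt_spec 3 8 cov cov_all (lst b) rfl (lst_lt b)
  have hl' : lN (lst b) = 0 := by
    have h3 := lN_eq b
    rw [hl, ZMod.natCast_eq_zero_iff] at h3
    have h4 : lN (lst b) < 3 := by
      unfold lst lN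
      exact Nat.mod_lt _ (by norm_num)
    exact Nat.eq_zero_of_dvd_of_lt h3 h4
  have hq' : qN (lst b) = 0 := by
    have h3 := qN_eq b
    rw [hq, ZMod.natCast_eq_zero_iff] at h3
    have h4 : qN (lst b) < 3 := by
      unfold lst qN
      exact Nat.mod_lt _ (by norm_num)
    exact Nat.eq_zero_of_dvd_of_lt h3 h4
  have hd : dg (cd (lst b)) = lst b := by
    unfold lst
    exact dg_cd (ZMod.val_lt _) (ZMod.val_lt _) (ZMod.val_lt _) (ZMod.val_lt _) (ZMod.val_lt _) (ZMod.val_lt _)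
      (ZMod.val_lt _) (ZMod.val_lt _)
  have hne : ∀ c : ℕ, cd (lst b) = c → b = vecOf 3 (dg c) := by
    intro c hc
    rw [← hc, hd, vecOf_lst]
  unfold cov at hc
  simp only [hl', hq', Nat.beq_eq, Bool.or_eq_true, Bool.not_eq_true', List.any_eq_true] at hc
  rcases hc with (((((hc | hc) | hc) | hc) | hc) | hc)
  · exact absurd hc (by decide)
  · exact absurd hc (by decide)
  · exact absurd ((hne 0 hc).trans (by decide +kernel)) h0
  · exact absurd ((hne 729 hc).trans V1_dg) h1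
  · exact absurd ((hne 1458 hc).trans (by decide +kernel)) h2
  · obtain ⟨e, he, hec⟩ := hc
    obtain ⟨k, hk, hke⟩ := List.getElem_of_mem he
    have hlen : tab.length = 780 := by decide +kernel
    have hent : ent k = e := by
      unfold ent
      rw [List.getD_eq_getElem _ _ hk, hke]
    obtain ⟨L, hL1, hL2⟩ := walk k (by omega)
    refine ⟨L, hL1, ?_⟩
    rw [hent, hec, hd, vecOf_lst] at hL2
    exact hL2

/-- **the pure pairs** -/
theorem pure_pair {a b : Fin 8 → ZMod 3} (ha : nz a = 78) (hb : nz b = 78) (hab : nz (a + b) = 78)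
    (hab' : nz (a - b) = 78) : ∃ L : List (Fin 8), L.foldr (fun j v => srefl chevE8 8 j v) a = V1 ∧
      (L.foldr (fun j v => srefl chevE8 8 j v) b = V2 ∨ L.foldr (fun j v => srefl chevE8 8 j v) b = V3) := by
  obtain ⟨L₁, h₁⟩ := exists_V1 ha
  have hb' : nz (wd L₁ b) = 78 := by rw [nz_wd, hb]
  have hs : nz (V1 + wd L₁ b) = 78 := by rw [← h₁, ← wd_add, nz_wd, hab]
  have hd : nz (V1 - wd L₁ b) = 78 := by rw [← h₁, ← wd_sub, nz_wd, hab']
  have hq := Q_of_nz hb'
  have hl : ln (wd L₁ b) = 0 := by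
    have h3 := Q_add (wd L₁ b)
    rw [Q_of_nz hs, Q_V1, hq] at h3
    simpa using h3.symm
  have n0 : wd L₁ b ≠ 0 := by
    intro h
    rw [h, nz_zero] at hb'
    omega
  have n1 : wd L₁ b ≠ V1 := by
    intro h
    rw [h, sub_self, nz_zero] at hd
    omega
  have n2 : wd L₁ b ≠ -V1 := by
    intro h
    rw [h, add_neg_cancel, nz_zero] at hs
    omega
  obtain ⟨L₂, h₂, h₃⟩ := exists_of_cov n0 n1 n2 hq hl
  refine ⟨L₂ ++ L₁, ?_, ?_⟩
  · show wd (L₂ ++ L₁) a = V1
    rw [wd_append, h₁, h₂]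
  · show wd (L₂ ++ L₁) b = V2 ∨ wd (L₂ ++ L₁) b = V3
    rw [wd_append]
    exact h₃

end Cfsg.Agent.H251.L34
end

private theorem dce_3d391fd536f3 : _root_.True := by
  try have : _root_.True := by simp only [_root_.Cfsg.Agent.H251.L34.wl.eq_1]
  try have : _root_.True := by simp only [_root_.Cfsg.Agent.H251.L34.gen.eq_1]
  try have : _root_.True := by simp only [_root_.Cfsg.Agent.H251.L34.CM.eq_1]
  try have : _root_.True := by simp only [_root_.Cfsg.Agent.H251.L34.wl.eq_def]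
  try have : _root_.True := by simp only [_root_.Cfsg.Agent.H251.L34.wl.eq_2]
  exact _root_.True.intro
end

-- part: H259/L34/Dim
section
prune_inst 0x10006504040000000018050000002060200000020020040004020100010001400900000038a00110000888402008004001100000420000000a00000000000000000002040040a000000000000000000000000000000000000000000000000000000000000
set_option linter.all false
open scoped Cfsg.Agent.FastGrp

-- part: H259/L34/Cls
section
/-!
# S5917 (`L₃(4)` in `E₈(2)`), I.3: the elements of order 3, 5, 7 of `E₈(2)`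

* `qf` : half the square of a vector of the coweight lattice modulo `N`; invariant under the Weyl group;
* `qf_unique` : two torus vectors of the same element have the same `qf`;
* `two` : `TorZ x N v ζ → TorZ x N (2 v) ζ` (Frobenius), so `3 qf v = 0`;
* `cnt3`, `cnt5`, `cnt7` : the dimensions of the fixed spaces.
-/

set_option autoImplicit false
set_option linter.unusedSectionVars false
set_option maxRecDepth 100000

namespace Cfsg.Agent.H259.L34

open Cfsg Cfsg.Lie Cfsg.Lie.ChevalleyDatum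
open Cfsg.Agent.ChevalleyStructure Cfsg.Agent.ChevalleyStructure.CoxeterGeom
  Cfsg.Agent.ChevalleyStructure.Elts Cfsg.Agent.ChevalleyStructure.CoxeterGeomTypes
open Cfsg.Agent.Tits.Roots Cfsg.Agent.Nodes.Reps Cfsg.Agent.Nodes.BNOf Cfsg.Agent.Nodes.RGDChev
  Cfsg.Agent.KFacts.RgdChevCoord
open Cfsg.Agent.BpExc.TorChev Cfsg.Agent.BpExc.TowChev Cfsg.Agent.H129.TorusChar
open Cfsg.Agent.BpExc.Tow Cfsg.Agent.BpExc.LangFr Cfsg.Agent.LangThm Cfsg.Agent.BpExc Cfsg.Agent.H129.TorusMain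
open Cfsg.Agent.BpExc.FamInst Cfsg.Agent.BpExc.FamUntw
open Cfsg.Agent.H942.E8Tab (e8T)
open Cfsg.Agent.H720.TorusReal Cfsg.Agent.H897
open Cfsg.Agent.H942.CB Cfsg.Agent.H944.RootVals Cfsg.Agent.H944.Kac Cfsg.Agent.H944.Tab
open Cfsg.Agent.H943.E8Tab (R8 th8 check2 alcove8 count_eq_sum sum_vecOf vecOf)
open Cfsg.Agent.H939.L64
open Cfsg.Agent.H413.L64

/-- half the square of a coweight modulo `N` -/
def qf {R : Type*} [CommRing R] (v : Fin 8 → R) : R :=
  2 * v 0 ^ 2 + 4 * v 1 ^ 2 + 7 * v 2 ^ 2 + 15 * v 3 ^ 2 + 10 * v 4 ^ 2 + 6 * v 5 ^ 2 + 3 * v 6 ^ 2 + 1 * v 7 ^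
    2 + 5 * v 0 * v 1 + 7 * v 0 * v 2 + 10 * v 0 * v 3 + 8 * v 0 * v 4 + 6 * v 0 * v 5 + 4 * v 0 * v 6 + 2 * v 0 *
    v 7 + 10 * v 1 * v 2 + 15 * v 1 * v 3 + 12 * v 1 * v 4 + 9 * v 1 * v 5 + 6 * v 1 * v 6 + 3 * v 1 * v 7 + 20 *
    v 2 * v 3 + 16 * v 2 * v 4 + 12 * v 2 * v 5 + 8 * v 2 * v 6 + 4 * v 2 * v 7 + 24 * v 3 * v 4 + 18 * v 3 * v 5
    + 12 * v 3 * v 6 + 6 * v 3 * v 7 + 15 * v 4 * v 5 + 10 * v 4 * v 6 + 5 * v 4 * v 7 + 8 * v 5 * v 6 + 4 * v 5 *
    v 7 + 3 * v 6 * v 7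

/-- the Cartan matrix -/
def CM : Fin 8 → Fin 8 → ℤ :=
  ![![2, 0, -1, 0, 0, 0, 0, 0], ![0, 2, 0, -1, 0, 0, 0, 0], ![-1, 0, 2, -1, 0, 0, 0, 0], ![0, -1, -1, 2, -1, 0, 0, 0],
    ![0, 0, 0, -1, 2, -1, 0, 0], ![0, 0, 0, 0, -1, 2, -1, 0], ![0, 0, 0, 0, 0, -1, 2, -1], ![0, 0, 0, 0, 0, 0, -1, 2]]

theorem cartan_eq : ∀ i j : Fin 8, cartanOf chevE8 8 i j = CM i j := by decide +kernel

/-- `qf` is invariant under the simple reflections -/
theorem qf_srefl {R : Type*} [CommRing R] (v : Fin 8 → R) (j : Fin 8) : qf (srefl chevE8 8 j v) = qf v := by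
  have h : srefl chevE8 8 j v = fun i => v i - (CM j i : R) * v j := by
    funext i
    unfold srefl
    rw [cartan_eq]
  rw [h]
  fin_cases j <;> · simp only [qf, CM, _root_.Fin.isValue, _root_.Int.reduceNeg, _root_.Fin.zero_eta, _root_.Matrix.cons_val', _root_.Matrix.cons_val_zero, _root_.Matrix.cons_val_fin_one, _root_.Int.cast_ofNat, _root_.Matrix.cons_val_one, _root_.Int.cast_zero, _root_.MulZeroClass.zero_mul, _root_.sub_zero, _root_.Matrix.cons_val, _root_.Int.cast_neg, _root_.Int.cast_one, _root_.neg_mul, _root_.one_mul, _root_.sub_neg_eq_add, _root_.add_left_inj, _root_.Fin.mk_one, _root_.Fin.reduceFinMk]; ring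

/-- the value of `v` on a lattice vector -/
def dz {N : ℕ} (v : Fin 8 → ZMod N) (a : Fin 8 → ℤ) : ZMod N := ∑ i, (a i : ZMod N) * v i

theorem dz_sub {N : ℕ} (v : Fin 8 → ZMod N) (a b : Fin 8 → ℤ) : dz v (a - b) = dz v a - dz v b := by
  unfold dz
  rw [← Finset.sum_sub_distrib]
  exact Finset.sum_congr rfl fun i _ => by rw [Pi.sub_apply]; push_cast; ring

theorem dz_smul {N : ℕ} (v : Fin 8 → ZMod N) (c : ℤ) (a : Fin 8 → ℤ) : dz v (c • a) = c * dz v a := by
  unfold dz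
  rw [Finset.mul_sum]
  exact Finset.sum_congr rfl fun i _ => by rw [Pi.smul_apply, smul_eq_mul]; push_cast; ring

theorem dz_sr {N : ℕ} (v : Fin 8 → ZMod N) (i : Fin 8) : dz v (sr i) = v i := by
  unfold dz
  rw [Finset.sum_eq_single i]
  · rw [sr_self]; push_cast; ring
  · intro b _ hb
    rw [sr_ne hb]; push_cast; ring
  · intro h
    exact absurd (Finset.mem_univ i) h

abbrev cs8 := CoxeterMatrix.E₈.toCoxeterSystem

theorem pairing_sr (j i : Fin 8) : pairing (cartanOf chevE8 8) j (sr i) = cartanOf chevE8 8 j i := by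
  unfold pairing
  rw [Finset.sum_eq_single i]
  · rw [sr_self, mul_one]
  · intro b _ hb
    rw [sr_ne hb, mul_zero]
  · intro h
    exact absurd (Finset.mem_univ i) h

/-- `qf` is invariant under the Weyl group -/
theorem qf_act {N : ℕ} (w : CoxeterMatrix.E₈.Group) (v : Fin 8 → ZMod N) :
    qf (fun i => dz v (rep cs8 e8T.isCartan w (sr i))) = qf v := by
  induction w using cs8.simple_induction_right with
  | one =>
    congr 1
    funext i
    rw [map_one, Module.End.one_apply, dz_sr]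
  | mul_simple_right w j ih =>
    rw [← ih]
    have h : (fun i => dz v (rep cs8 e8T.isCartan (w * cs8.simple j) (sr i))) =
        srefl chevE8 8 j (fun i => dz v (rep cs8 e8T.isCartan w (sr i))) := by
      funext i
      rw [rep_mul_apply, rep_simple_eq, map_sub, map_smul, dz_sub, dz_smul, pairing_sr]
      rfl
    rw [h, qf_srefl]

section

variable {N : ℕ} [NeZero N]

/-- two torus vectors of the same element are conjugate under the Weyl group -/
theorem conj_w {x : E2} {v v' : Fin 8 → ZMod N} {ζ : KK} (h : TorZ x N v ζ) (h' : TorZ x N v' ζ) :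
    ∃ w : CoxeterMatrix.E₈.Group, ∀ i, dz v' (rep cs8 e8T.isCartan w (sr i)) = v i := by
  obtain ⟨hζ, z, t, hz, ht, hv⟩ := h
  obtain ⟨-, z', t', hz', ht', hv'⟩ := h'
  have hkch := charKK
  have hFinW : Finite CoxeterMatrix.E₈.Group := finite_W e8T cs8
  have e : z'⁻¹ * z * t = t' * (z'⁻¹ * z) := by
    rw [← hz, ← hz']; group
  obtain ⟨m, -, w, g, hg, hgs, -⟩ := Cfsg.Agent.H378.Regular.exists_form' e8T cs8 locKK 2 ht ht' e
  have hgt : g * t * g⁻¹ = t' := by rw [hgs]; group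
  have hζ0 : ζ ≠ 0 := hζ.ne_zero (NeZero.ne N)
  refine ⟨w, fun i => ?_⟩
  have h1 := cX_rp e8T cs8 locKK 2 hg ht (sr i)
  rw [hgt, cX_eq_zpow ht' hζ0 hv', hv i, zpow_val hζ] at h1
  have h2 := (pow_inj_val hζ).1 h1
  rw [← h2]
  unfold dz vl
  push_cast
  exact Finset.sum_congr rfl fun j _ => by rw [ZMod.natCast_zmod_val]

theorem qf_unique {x : E2} {v v' : Fin 8 → ZMod N} {ζ : KK} (h : TorZ x N v ζ) (h' : TorZ x N v' ζ) :
    qf v = qf v' := by
  obtain ⟨w, hw⟩ := conj_w h h'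
  rw [← qf_act w v']
  congr 1
  funext i
  exact (hw i).symm

/-- the Frobenius map -/
theorem two {x : E2} {v : Fin 8 → ZMod N} {ζ : KK} (h : TorZ x N v ζ) : TorZ x N (fun i => 2 * v i) ζ := by
  obtain ⟨hζ, z, t, hz, ht, hv⟩ := h
  have hkch := charKK
  have hσf := phi_isFrob (D := chevE8) (k := KK) 2 1
  have hσF := phi_fr e8T cs8 2 locKK 1
  have hσt : Cfsg.Agent.H129.TorusUntw.phi chevE8 KK 2 1 t ∈ TT chevE8 KK := (hσF.tor t).2 ht
  refine ⟨hζ, Cfsg.Agent.H129.TorusUntw.phi chevE8 KK 2 1 z, Cfsg.Agent.H129.TorusUntw.phi chevE8 KK 2 1 t, ?_, hσt, fun i => ?_⟩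
  · rw [← hz, map_mul, map_mul, map_inv, Cfsg.Agent.H939.L16.phi_em]
  · have h1 := ch_sigma e8T cs8 hσf hσF (isRoot_sr cs8 e8T.isCartan i) ht
    have h2 : ch e8T (sr i) (Cfsg.Agent.H129.TorusUntw.phi chevE8 KK 2 1 t) = ch e8T (sr i) t ^ 2 := h1
    rw [cX_root e8T cs8 hσt (isRoot_sr _ e8T.isCartan i), h2,
      ← cX_root e8T cs8 ht (isRoot_sr _ e8T.isCartan i), hv i, ← pow_mul, pow_val hζ]
    congr 2
    push_cast
    rw [ZMod.natCast_zmod_val]
    ring

/-- the values are invariant under the Frobenius map -/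
theorem conj_ms {x : E2} {v : Fin 8 → ZMod N} {ζ : KK} (h : TorZ x N v ζ) (hu : IsUnit (2 : ZMod N)) (a : ZMod N) :
    (ms chevE8 8 v).count a = (ms chevE8 8 v).count (2 * a) := by
  have h1 : ∀ b : ZMod N, cntE (fun i => 2 * v i) b = cntE v b := fun b => by
    rw [← T0d h b, ← T0d (two h) b]
  have h2 : (ms chevE8 8 (fun i => 2 * v i)).count (2 * a) = (ms chevE8 8 v).count a := by
    rw [ms_smul]
    exact Multiset.count_map_eq_count' _ _ (fun b c hbc => hu.mul_left_cancel hbc) _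
  rw [← h2]
  have h3 := h1 (2 * a)
  unfold cntE at h3
  exact Nat.add_right_cancel h3

theorem three_qf {x : E2} {v : Fin 8 → ZMod N} {ζ : KK} (h : TorZ x N v ζ) : 3 * qf v = 0 := by
  have h1 := qf_unique h (two h)
  have h2 : qf (fun i => 2 * v i) = 4 * qf v := by
    unfold qf
    ring
  rw [h2] at h1
  linear_combination -h1

end

/-! ### the alcove vectors -/

/-- the number of roots with value `a` -/
def cz (N : ℕ) (y : List ℕ) (a : ZMod N) : ℕ :=
  (R8.map fun r => (if ((dotN r y : ℕ) : ZMod N) = a then 1 else 0) +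
    (if -((dotN r y : ℕ) : ZMod N) = a then 1 else 0)).sum

theorem count_vecOf {N : ℕ} (y : List ℕ) (a : ZMod N) : (ms chevE8 8 (vecOf N y)).count a = cz N y a := by
  rw [count_eq_sum]
  unfold cz
  exact sum_vecOf y fun b => if b = a then 1 else 0

private noncomputable def dot28 (r : List ℕ) : List ℕ → ℕ :=
  List.rec (motive := fun _ => List ℕ → ℕ) (fun _ => 0)
    (fun a _ ih y => List.rec (motive := fun _ => ℕ) 0 (fun b bs _ => Nat.add (Nat.mul a b) (ih bs)) y) r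

private theorem dot28_eq : ∀ r y : List ℕ, dotN r y = dot28 r y
  | [], y => by cases y <;> rfl
  | _ :: _, [] => rfl
  | a :: as, b :: bs => congrArg (a * b + ·) (dot28_eq as bs)

private noncomputable def cz28 (N : ℕ) (y : List ℕ) (a : ZMod N) : ℕ :=
  List.rec (motive := fun _ => ℕ) 0 (fun r _ ih => Nat.add
    (Nat.add (Bool.rec 0 1 (Nat.beq (Nat.mod (dot28 r y) N) a.val))
      (Bool.rec 0 1 (Nat.beq (Nat.mod (dot28 r y) N) (-a).val))) ih) R8

private theorem cz28_eq (N : ℕ) [NeZero N] : cz N = cz28 N := by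
  funext y a
  have e : ∀ (n : ℕ) (b : ZMod N), (if (n : ZMod N) = b then 1 else 0 : ℕ) = Bool.rec 0 1 (Nat.beq (n % N) b.val) := by
    intro n b
    cases h : Nat.beq (n % N) b.val
    · refine if_neg fun hb => ?_
      rw [← hb, ZMod.val_natCast, Nat.beq_refl] at h
      cases h
    · exact if_pos (ZMod.val_injective N ((ZMod.val_natCast N n).trans (Nat.eq_of_beq_eq_true h)))
  delta cz cz28
  generalize R8 = L
  induction L with
  | nil => rfl
  | cons r L ih =>
    rw [List.map_cons, List.sum_cons, ih, e, if_congr neg_eq_iff_eq_neg rfl rfl, e, dot28_eq]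
    rfl

theorem chk3 : allAlc th8 3 (fun y => y == [0, 0, 0, 0, 0, 0, 0, 0] || cz 3 y 0 == 126 || cz 3 y 0 == 84 ||
    cz 3 y 0 == 78 || cz 3 y 0 == 72) = true := by 
  rewrite [cz28_eq 3]
  decide +kernel

theorem chk5 : allAlc th8 5 (fun y => y == [0, 0, 0, 0, 0, 0, 0, 0] || cz 5 y 1 != cz 5 y 2 || qf (vecOf 5 y) != 0 ||
    cz 5 y 0 == 60 || cz 5 y 0 == 40) = true := by 
  rewrite [cz28_eq 5]
  decide +kernel

theorem chk7 : allAlc th8 7 (fun y => y == [0, 0, 0, 0, 0, 0, 0, 0] || cz 7 y 1 != cz 7 y 2 || cz 7 y 2 != cz 7 y 4 ||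
    cz 7 y 0 == 72 || cz 7 y 0 == 30) = true := by 
  rewrite [cz28_eq 7]
  decide +kernel

section

variable {N : ℕ} [NeZero N]

/-- the alcove vector of an element -/
theorem alc {x : E2} {v : Fin 8 → ZMod N} {ζ : KK} (h : TorZ x N v ζ) (h1 : x ≠ 1) :
    ∃ Y : List ℕ, Y.length = 8 ∧ dotN th8 Y ≤ N ∧ Y ≠ [0, 0, 0, 0, 0, 0, 0, 0] ∧ TorZ x N (vecOf N Y) ζ ∧
      (∀ a, cz N Y a = cz N Y (2 * a) ∨ ¬ IsUnit (2 : ZMod N)) ∧ ∀ a, cntE v a = cz N Y a + if a = 0 then 8 else 0 := by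
  obtain ⟨Y, hYl, hYθ, hms, hT⟩ := alcove8 (NeZero.pos N)
    (fun w => ms chevE8 8 w = ms chevE8 8 v ∧ TorZ x N w ζ)
    (fun w j h => ⟨by rw [ms_srefl e8T, h.1], T0a h.2 j⟩) ⟨rfl, h⟩
  refine ⟨Y, hYl, hYθ, ?_, hT, ?_, ?_⟩
  · rintro rfl
    apply h1
    obtain ⟨hζ, z, t, hz, ht, hv⟩ := hT
    have h2 : t = 1 := cX_inj e8T ht (one_mem _) fun i => by
      rw [hv i, cX_one]
      have h3 : vecOf N [0, 0, 0, 0, 0, 0, 0, 0] i = 0 := by
        unfold vecOf
        (revert i; simp only [_root_.Fin.forall_fin_succ, _root_.List.getD_eq_getElem?_getD, _root_.List.length_cons, _root_.List.length_nil, _root_.zero_add, Nat.reduceAdd, _root_.Fin.is_lt, _root_.getElem?_pos, _root_.Option.getD_some, Fin.isValue, _root_.Fin.coe_ofNat_eq_mod, _root_.Nat.zero_mod, _root_.List.getElem_cons_zero, _root_.Nat.cast_zero, _root_.Fin.val_succ, _root_.List.getElem_cons_succ, _root_.Fin.val_eq_zero, _root_.implies_true, _root_.and_self])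
      rw [h3, ZMod.val_zero, pow_zero]
    rw [h2] at hz
    apply em_inj
    rw [map_one]
    have h3 : _root_.Cfsg.Agent.H939.L64.em x = z * (z⁻¹ * em x * z) * z⁻¹ := by group
    rw [h3, hz]
    group
  · intro a
    by_cases hu : IsUnit (2 : ZMod N)
    · left
      have h2 := conj_ms hT hu a
      rwa [count_vecOf, count_vecOf] at h2
    · right
      exact hu
  · intro a
    unfold cntE
    rw [← hms, count_vecOf]

end

/-- **order 3** -/
theorem cnt3 {x : E2} {v : Fin 8 → ZMod 3} {ζ : KK} (h : TorZ x 3 v ζ) (h1 : x ≠ 1) :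
    cntE v 0 = 134 ∨ cntE v 0 = 92 ∨ cntE v 0 = 86 ∨ cntE v 0 = 80 := by
  obtain ⟨Y, hYl, hYθ, hY0, hT, hfr, hc⟩ := alc h h1
  have h2 := allAlc_spec th8 3 _ (by decide) chk3 Y hYl hYθ
  simp only [Bool.or_eq_true, beq_iff_eq, hY0, false_or] at h2
  rw [hc 0, if_pos rfl]
  omega

/-- **order 5** -/
theorem cnt5 {x : E2} {v : Fin 8 → ZMod 5} {ζ : KK} (h : TorZ x 5 v ζ) (h1 : x ≠ 1) :
    cntE v 0 = 68 ∨ cntE v 0 = 48 := by
  obtain ⟨Y, hYl, hYθ, hY0, hT, hfr, hc⟩ := alc h h1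
  have h2 := allAlc_spec th8 5 _ (by decide) chk5 Y hYl hYθ
  have h3 : cz 5 Y 1 = cz 5 Y 2 := by
    rcases hfr 1 with h3 | h3
    · rwa [mul_one] at h3
    · exact absurd (by decide) h3
  have h4 : qf (vecOf 5 Y) = 0 := by
    have h4 := three_qf hT
    exact (IsUnit.mul_right_eq_zero (by decide)).1 h4
  simp only [Bool.or_eq_true, beq_iff_eq, bne_iff_ne, ne_eq, hY0, h3, h4, not_true_eq_false, false_or] at h2
  rw [hc 0, if_pos rfl]
  omega

/-- **order 7** -/
theorem cnt7 {x : E2} {v : Fin 8 → ZMod 7} {ζ : KK} (h : TorZ x 7 v ζ) (h1 : x ≠ 1) :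
    cntE v 0 = 80 ∨ cntE v 0 = 38 := by
  obtain ⟨Y, hYl, hYθ, hY0, hT, hfr, hc⟩ := alc h h1
  have h2 := allAlc_spec th8 7 _ (by decide) chk7 Y hYl hYθ
  have hu : IsUnit (2 : ZMod 7) := by decide
  have h3 : cz 7 Y 1 = cz 7 Y 2 := by
    rcases hfr 1 with h3 | h3
    · rwa [mul_one] at h3
    · exact absurd hu h3
  have h4 : cz 7 Y 2 = cz 7 Y 4 := by
    rcases hfr 2 with h4 | h4
    · exact h4
    · exact absurd hu h4
  simp only [Bool.or_eq_true, beq_iff_eq, bne_iff_ne, ne_eq, hY0, h3, h4, not_true_eq_false, false_or] at h2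
  rw [hc 0, if_pos rfl]
  omega

/-- the fixed spaces over the algebraic closure -/
theorem fix_eq {N : ℕ} [NeZero N] {x : E2} {v : Fin 8 → ZMod N} {ζ : KK} (h : TorZ x N v ζ) :
    Module.finrank KK (Cfsg.Agent.H943.RepAdd.eig rE x 1) = cntE v 0 := by
  rw [← T0d h 0, ZMod.val_zero, pow_zero]

end Cfsg.Agent.H259.L34
end

-- part: H544/L34/Toral
section
/-!
# S5917: two commuting elements of order 3 of `E₈(2)` are toral (helper544)

`toral` : `e1, e2` commuting, `e1 ^ 3 = e2 ^ 3 = 1` : there is `z` with `z⁻¹ e1 z, z⁻¹ e2 z` in the diagonal subgroup.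
-/

set_option autoImplicit false
set_option linter.unusedSectionVars false
set_option maxRecDepth 100000

namespace Cfsg.Agent.H544.L34

open CoxeterSystem Cfsg Cfsg.Lie Cfsg.Lie.ChevalleyDatum
open Cfsg.Agent.ChevalleyStructure Cfsg.Agent.ChevalleyStructure.Elts Cfsg.Agent.ChevalleyStructure.CoxeterGeom
  Cfsg.Agent.ChevalleyStructure.CoxeterGeomTypes Cfsg.Agent.ChevalleyStructure.NPerm
open Cfsg.Agent.Tits.Roots Cfsg.Agent.Tits.Core Cfsg.Agent.Nodes Cfsg.Agent.Nodes.Reps Cfsg.Agent.Nodes.BNOf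
  Cfsg.Agent.Nodes.RGDChev Cfsg.Agent.Nodes.Bruhat Cfsg.Agent.Nodes.SubComb Cfsg.Agent.Nodes.Coroot
open Cfsg.Agent.KFacts.RgdField Cfsg.Agent.KFacts.RgdChevCoord Cfsg.Agent.BpExc.TorCent Cfsg.Agent.BpExc.TorChev
open Cfsg.Agent.GpExc.Field Cfsg.Agent.BpExc.Tow Cfsg.Agent.BpExc.TowChev Cfsg.Agent.BpExc.Fr
  Cfsg.Agent.BpExc.LangFr Cfsg.Agent.LangThm Cfsg.Agent.BpExc Cfsg.Agent.H129.TorusMain
open Cfsg.Agent.H720.TorusReal Cfsg.Agent.H897
open Cfsg.Agent.H897.T5Lat (Frm bf bf_apply)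
open Cfsg.Agent.H897.T5Cent (Con star cent_form)
open Cfsg.Agent.H897.T5UntwRow (A8 par8 n8)
open Cfsg.Agent.BpExc.RowsUntw (e8T)
open Cfsg.Agent.BpExc.FamInst
open Cfsg.Agent.BpExc.FamUntw
open Cfsg.Agent.H939.L64 (KK E2 em)
open Cfsg.Agent.H413.L64 (charKK locKK)
open Cfsg.Agent.H795.SetCent

attribute [local instance] Cfsg.Agent.H413.L64.charKK

theorem pgroup_pair {G : Type*} [Group G] {x t : G} (hx : x ^ 3 = 1) (ht : t ^ 3 = 1) (h : x * t = t * x) :
    IsPGroup 3 ↥(Subgroup.closure ({x, t} : Set G)) := by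
  let K : Subgroup G :=
    { carrier := {y | ∃ i j : ℤ, y = x ^ i * t ^ j}
      mul_mem' := by
        rintro _ _ ⟨i, j, rfl⟩ ⟨i', j', rfl⟩
        refine ⟨i + i', j + j', ?_⟩
        have h1 : Commute (t ^ j) (x ^ i') := (show Commute t x from h.symm).zpow_zpow j i'
        calc x ^ i * t ^ j * (x ^ i' * t ^ j') = x ^ i * (t ^ j * x ^ i') * t ^ j' := by group
          _ = x ^ i * (x ^ i' * t ^ j) * t ^ j' := by rw [h1.eq]
          _ = _ := by rw [zpow_add, zpow_add]; group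
      one_mem' := ⟨0, 0, by simp⟩
      inv_mem' := by
        rintro _ ⟨i, j, rfl⟩
        refine ⟨-i, -j, ?_⟩
        have h1 : Commute (x ^ i) (t ^ j) := (show Commute x t from h).zpow_zpow i j
        rw [h1.eq, _root_.mul_inv_rev, zpow_neg, zpow_neg] }
  have hK : Subgroup.closure ({x, t} : Set G) ≤ K := by
    rw [Subgroup.closure_le]
    rintro y (rfl | rfl)
    · exact ⟨1, 0, by simp⟩
    · exact ⟨0, 1, by simp⟩
  rintro ⟨y, hy⟩
  obtain ⟨i, j, rfl⟩ := hK hy
  refine ⟨1, Subtype.ext ?_⟩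
  show (x ^ i * t ^ j) ^ 3 ^ 1 = 1
  have h1 : Commute (x ^ i) (t ^ j) := (show Commute x t from h).zpow_zpow i j
  rw [pow_one, h1.mul_pow, ← zpow_natCast, ← zpow_natCast, ← zpow_mul, ← zpow_mul, mul_comm i, mul_comm j, zpow_mul,
    zpow_mul, zpow_natCast, zpow_natCast, hx, ht, one_zpow, one_zpow, one_mul]

theorem con3 : Cfsg.Agent.H897.T5Cent.Con (k := KK) e8T CoxeterMatrix.E₈.toCoxeterSystem locKK 2 3 := by
  have hFinW : Finite CoxeterMatrix.E₈.Group := finite_W e8T CoxeterMatrix.E₈.toCoxeterSystem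
  have hFrm := par8.frm (CoxeterMatrix.E₈.toCoxeterSystem) e8T.isCartan (fun i j => (n8 i j).1) (fun i j => (n8 i j).2)
  exact T5Cent.con_of_frm e8T CoxeterMatrix.E₈.toCoxeterSystem locKK 2 Nat.prime_three (by norm_num) inv_E8
    (Nat.coprime_one_left _) hFrm

/-- **two commuting elements of order 3 are in a common torus** -/
theorem toral {e1 e2 : E2} (h1 : e1 ^ 3 = 1) (h2 : e2 ^ 3 = 1) (hc : Commute e1 e2) :
    ∃ z : ↥(chevE8.group KK), z⁻¹ * _root_.Cfsg.Agent.H939.L64.em e1 * z ∈ TT chevE8 KK ∧ z⁻¹ * _root_.Cfsg.Agent.H939.L64.em e2 * z ∈ TT chevE8 KK := by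
  have hFinW : Finite CoxeterMatrix.E₈.Group := finite_W e8T CoxeterMatrix.E₈.toCoxeterSystem
  have hcard : Nat.card CoxeterMatrix.E₈.Group = 696729600 :=
    Cfsg.Agent.S1093.result (⟨8, CoxeterMatrix.E₈⟩, 696729600) (by simp)
  have hx1 : _root_.Cfsg.Agent.H939.L64.em e1 ^ 3 = 1 := by rw [← map_pow, h1, map_one]
  have hx2 : _root_.Cfsg.Agent.H939.L64.em e2 ^ 3 = 1 := by rw [← map_pow, h2, map_one]
  obtain ⟨g1, hg1⟩ := Cfsg.Agent.H944.TorAnyChev.exists_conj_mem_TT e8T 2 (Cfsg.Agent.H944.RootVals.hAlg_closure 2 (ZMod 2)) (q := 3) (by norm_num)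
    (by norm_num) hx1
  obtain ⟨t1, ht1⟩ : ∃ t1, t1 = g1 * em e1 * g1⁻¹ := ⟨_, rfl⟩
  obtain ⟨x, hx⟩ : ∃ x, x = g1 * em e2 * g1⁻¹ := ⟨_, rfl⟩
  rw [← ht1] at hg1
  have ht3 : t1 ^ 3 = 1 := by rw [ht1, conj_pow, hx1, mul_one, mul_inv_cancel]
  have hx3 : x ^ 3 = 1 := by rw [hx, conj_pow, hx2, mul_one, mul_inv_cancel]
  have hcm : x * t1 = t1 * x := by
    have h3 : em e2 * em e1 = em e1 * em e2 := by rw [← map_mul, ← map_mul, hc.eq]
    rw [hx, ht1]
    calc g1 * em e2 * g1⁻¹ * (g1 * em e1 * g1⁻¹) = g1 * (em e2 * em e1) * g1⁻¹ := by group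
      _ = g1 * (em e1 * em e2) * g1⁻¹ := by rw [h3]
      _ = _ := by group
  obtain ⟨m, hm, s, hs, hms⟩ := cent_form e8T CoxeterMatrix.E₈.toCoxeterSystem locKK 2 con3 hg1 ht3 hcm
  obtain ⟨g, hg⟩ := H795.TorSub.exists_toral_step e8T 2 locKK (q := 3) (e := 5) (n := 1) Nat.prime_three (by norm_num)
    (by rw [hcard]; norm_num) (Set.finite_singleton t1) (by rw [Set.singleton_subset_iff]; exact hg1) hms hm hs (by rw [pow_one]; exact hx3)
    (Q := Subgroup.closure ({x, t1} : Set _)) (pgroup_pair hx3 ht3 hcm) le_rfl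
  have e3 : ∀ y : ↥(chevE8.group KK), (g * g1)⁻¹⁻¹ * y * (g * g1)⁻¹ = g * (g1 * y * g1⁻¹) * g⁻¹ := fun y => by group
  refine ⟨(g * g1)⁻¹, ?_, ?_⟩
  · rw [e3, ← ht1]
    exact hg _ (Subgroup.subset_closure (by simp))
  · rw [e3, ← hx]
    exact hg _ (Subgroup.subset_closure (by simp))

end Cfsg.Agent.H544.L34
end

-- part: H544/L34/Glue
section
/-!
# S5917: simultaneous torus data of a commuting pair (helper544)

`PairZ e1 e2 a b ζ` : `z⁻¹ e1 z`, `z⁻¹ e2 z` are torus elements with the values `ζ ^ (a i)`, `ζ ^ (b i)` on the simple roots.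
* `PairZ.srefl`, `PairZ.word` : simple reflections;
* `exists_pairZ` : existence;
* `pair_glue` : the eight elements of `⟨e1, e2⟩` of fixed dimension `86`, a table `PP` of the pairs.
-/

set_option autoImplicit false
set_option linter.unusedSectionVars false
set_option maxRecDepth 100000

namespace Cfsg.Agent.H544.L34

open Cfsg Cfsg.Lie Cfsg.Lie.ChevalleyDatum
open Cfsg.Agent.ChevalleyStructure Cfsg.Agent.ChevalleyStructure.CoxeterGeom
  Cfsg.Agent.ChevalleyStructure.Elts Cfsg.Agent.ChevalleyStructure.CoxeterGeomTypes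
open Cfsg.Agent.Tits.Roots Cfsg.Agent.Nodes.Reps Cfsg.Agent.Nodes.BNOf Cfsg.Agent.Nodes.RGDChev
  Cfsg.Agent.KFacts.RgdChevCoord
open Cfsg.Agent.BpExc.TorChev Cfsg.Agent.BpExc.TowChev Cfsg.Agent.H129.TorusChar
open Cfsg.Agent.H942.E8Tab Cfsg.Agent.H942.CB Cfsg.Agent.H944.RootVals Cfsg.Agent.H944.Kac
open Cfsg.Agent.H943.RepAdd
open Cfsg.Agent.H939.L64
open Cfsg.Agent.H413.L64

section Val

variable {N : ℕ} [NeZero N] {ζ : KK}

/-- simple reflections and values -/
theorem srefl_val (hζ : IsPrimitiveRoot ζ N) {t : ↥(chevE8.group KK)} (ht : t ∈ TT chevE8 KK) {v : Fin 8 → ZMod N}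
    (hv : ∀ i, cX e8T t (sr i) = ζ ^ (v i).val) (j : Fin 8) :
    nc e8T KK j * t * (nc e8T KK j)⁻¹ ∈ TT chevE8 KK ∧
      ∀ i, cX e8T (nc e8T KK j * t * (nc e8T KK j)⁻¹) (sr i) = ζ ^ (srefl chevE8 8 j v i).val := by
  have hkch := charKK
  set cs := CoxeterMatrix.E₈.toCoxeterSystem with hcs
  have hn := rp_simple cs nsysKK j
  set n := nc e8T KK j with hn'
  have ht' : n * t * n⁻¹ ∈ TT chevE8 KK := (Subgroup.mem_normalizer_iff.1 hn.mem_normalizer t).1 ht
  have hζ0 : ζ ≠ 0 := hζ.ne_zero (NeZero.ne N)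
  refine ⟨ht', fun i => ?_⟩
  have h1 := cX_rp e8T cs locKK 2 hn ht (rep cs e8T.isCartan (cs.simple j) (sr i))
  rw [← rep_mul_apply, cs.simple_mul_simple_self, map_one, Module.End.one_apply] at h1
  rw [h1, rep_simple_eq, (isMC_cX e8T ht).sub, (isMC_cX e8T ht).zsmul, hv i, hv j]
  have h2 : pairing (cartanOf chevE8 8) j (sr i) = cartanOf chevE8 8 j i := by
    unfold pairing
    rw [Finset.sum_eq_single i]
    · rw [sr_self, mul_one]
    · intro b _ hb
      rw [sr_ne hb, mul_zero]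
    · intro h
      exact absurd (Finset.mem_univ i) h
  rw [h2, ← zpow_natCast, ← zpow_natCast, ← zpow_mul, ← zpow_sub₀ hζ0, zpow_val hζ]
  congr 2
  unfold Cfsg.Agent.H944.Kac.srefl
  push_cast
  rw [ZMod.natCast_zmod_val, ZMod.natCast_zmod_val, mul_comm]

end Val

/-- simultaneous torus data of a pair -/
def PairZ (e1 e2 : E2) (a b : Fin 8 → ZMod 3) (ζ : KK) : Prop :=
  ∃ z : ↥(chevE8.group KK), z⁻¹ * _root_.Cfsg.Agent.H939.L64.em e1 * z ∈ TT chevE8 KK ∧ z⁻¹ * _root_.Cfsg.Agent.H939.L64.em e2 * z ∈ TT chevE8 KK ∧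
    (∀ i, cX e8T (z⁻¹ * em e1 * z) (sr i) = ζ ^ (a i).val) ∧ ∀ i, cX e8T (z⁻¹ * em e2 * z) (sr i) = ζ ^ (b i).val

section Pair

variable {e1 e2 : E2} {a b : Fin 8 → ZMod 3} {ζ : KK}

theorem PairZ.srefl (hζ : IsPrimitiveRoot ζ 3) (h : PairZ e1 e2 a b ζ) (j : Fin 8) :
    PairZ e1 e2 (srefl chevE8 8 j a) (srefl chevE8 8 j b) ζ := by
  obtain ⟨z, h1, h2, ha, hb⟩ := h
  have e1' : (z * (nc e8T KK j)⁻¹)⁻¹ * _root_.Cfsg.Agent.H939.L64.em e1 * (z * (nc e8T KK j)⁻¹) =
      nc e8T KK j * (z⁻¹ * em e1 * z) * (nc e8T KK j)⁻¹ := by group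
  have e2' : (z * (nc e8T KK j)⁻¹)⁻¹ * _root_.Cfsg.Agent.H939.L64.em e2 * (z * (nc e8T KK j)⁻¹) =
      nc e8T KK j * (z⁻¹ * em e2 * z) * (nc e8T KK j)⁻¹ := by group
  refine ⟨z * (nc e8T KK j)⁻¹, ?_, ?_, ?_, ?_⟩
  · rw [e1']; exact (srefl_val hζ h1 ha j).1
  · rw [e2']; exact (srefl_val hζ h2 hb j).1
  · rw [e1']; exact (srefl_val hζ h1 ha j).2
  · rw [e2']; exact (srefl_val hζ h2 hb j).2

theorem PairZ.word (hζ : IsPrimitiveRoot ζ 3) (h : PairZ e1 e2 a b ζ) (L : List (Fin 8)) :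
    PairZ e1 e2 (L.foldr (fun j v => Cfsg.Agent.H944.Kac.srefl chevE8 8 j v) a)
      (L.foldr (fun j v => Cfsg.Agent.H944.Kac.srefl chevE8 8 j v) b) ζ := by
  induction L with
  | nil => exact h
  | cons j L ih => exact ih.srefl hζ j

theorem cube_val (hζ : IsPrimitiveRoot ζ 3) {x : KK} (hx : x ^ 3 = 1) : ∃ a : ZMod 3, x = ζ ^ a.val := by
  obtain ⟨i, hi, h⟩ := hζ.eq_pow_of_pow_eq_one hx
  refine ⟨(i : ZMod 3), ?_⟩
  rw [ZMod.val_natCast, Nat.mod_eq_of_lt hi, h]

theorem cX_one' (i : Fin 8) : cX e8T (1 : ↥(chevE8.group KK)) (sr i) = 1 := by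
  have h := cX_mul e8T (one_mem (TT chevE8 KK)) (one_mem (TT chevE8 KK)) (sr i)
  rw [mul_one] at h
  have h0 : cX e8T (1 : ↥(chevE8.group KK)) (sr i) ≠ 0 := (isMC_cX e8T (one_mem (TT chevE8 KK))).ne_zero _
  exact mul_left_cancel₀ h0 (by rw [mul_one]; exact h.symm)

theorem cX_cube {t : ↥(chevE8.group KK)} (ht : t ∈ TT chevE8 KK) (h3 : t ^ 3 = 1) (i : Fin 8) :
    cX e8T t (sr i) ^ 3 = 1 := by
  rw [pow_succ, pow_two, ← cX_mul e8T ht ht, ← cX_mul e8T (mul_mem ht ht) ht, ← cX_one' i, ← h3, pow_succ, pow_two]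

/-- existence -/
theorem exists_pairZ (hζ : IsPrimitiveRoot ζ 3) (h1 : e1 ^ 3 = 1) (h2 : e2 ^ 3 = 1) (hc : Commute e1 e2) :
    ∃ a b, PairZ e1 e2 a b ζ := by
  obtain ⟨z, hz1, hz2⟩ := toral h1 h2 hc
  have key : ∀ e : E2, e ^ 3 = 1 → (z⁻¹ * _root_.Cfsg.Agent.H939.L64.em e * z) ^ 3 = 1 := by
    intro e he
    have : (z⁻¹ * _root_.Cfsg.Agent.H939.L64.em e * z) ^ 3 = z⁻¹ * (em e) ^ 3 * z := by simp only [pow_succ, pow_zero, one_mul]; group
    rw [this, ← map_pow, he, map_one, mul_one, inv_mul_cancel]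
  choose a ha using fun i => cube_val hζ (cX_cube hz1 (key e1 h1) i)
  choose b hb using fun i => cube_val hζ (cX_cube hz2 (key e2 h2) i)
  exact ⟨a, b, z, hz1, hz2, ha, hb⟩

theorem PairZ.tor1 (hζ : IsPrimitiveRoot ζ 3) (h : PairZ e1 e2 a b ζ) : TorZ e1 3 a ζ := by
  obtain ⟨z, h1, h2, ha, hb⟩ := h
  exact ⟨hζ, z, _, rfl, h1, ha⟩

theorem PairZ.tor2 (hζ : IsPrimitiveRoot ζ 3) (h : PairZ e1 e2 a b ζ) : TorZ e2 3 b ζ := by
  obtain ⟨z, h1, h2, ha, hb⟩ := h
  exact ⟨hζ, z, _, rfl, h2, hb⟩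

theorem PairZ.mul (hζ : IsPrimitiveRoot ζ 3) (h : PairZ e1 e2 a b ζ) : PairZ e1 (e1 * e2) a (a + b) ζ := by
  have hζ' := hζ
  obtain ⟨z, h1, h2, ha, hb⟩ := h
  have e : z⁻¹ * _root_.Cfsg.Agent.H939.L64.em (e1 * e2) * z = (z⁻¹ * _root_.Cfsg.Agent.H939.L64.em e1 * z) * (z⁻¹ * _root_.Cfsg.Agent.H939.L64.em e2 * z) := by rw [map_mul]; group
  refine ⟨z, h1, ?_, ha, fun i => ?_⟩
  · rw [e]; exact mul_mem h1 h2
  · rw [e, cX_mul e8T h1 h2, ha, hb, ← pow_add, pow_val hζ, Pi.add_apply]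
    have : (((a i).val + (b i).val : ℕ) : ZMod 3) = a i + b i := by
      push_cast
      rw [ZMod.natCast_zmod_val, ZMod.natCast_zmod_val]
    rw [this]

theorem PairZ.symm (h : PairZ e1 e2 a b ζ) : PairZ e2 e1 b a ζ := by
  obtain ⟨z, h1, h2, ha, hb⟩ := h
  exact ⟨z, h2, h1, hb, ha⟩

theorem PairZ.sq (hζ : IsPrimitiveRoot ζ 3) (h : PairZ e1 e2 a b ζ) : PairZ e1 (e2 * e2) a (-b) ζ := by
  obtain ⟨z, h1, h2, ha, hb⟩ := h
  have e : z⁻¹ * _root_.Cfsg.Agent.H939.L64.em (e2 * e2) * z = (z⁻¹ * _root_.Cfsg.Agent.H939.L64.em e2 * z) * (z⁻¹ * em e2 * z) := by rw [map_mul]; group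
  refine ⟨z, h1, ?_, ha, fun i => ?_⟩
  · rw [e]; exact mul_mem h2 h2
  · rw [e, cX_mul e8T h2 h2, hb, ← pow_add, pow_val hζ]
    congr 2
    push_cast
    rw [ZMod.natCast_zmod_val, Pi.neg_apply]
    generalize b i = x
    revert x
    decide

/-- the number of the roots of value zero -/
def nz (v : Fin 8 → ZMod 3) : ℕ := (ms chevE8 8 v).count 0

theorem nz_of (hζ : IsPrimitiveRoot ζ 3) {x : E2} {v : Fin 8 → ZMod 3} (h : TorZ x 3 v ζ)
    (hd : Module.finrank KK (eig rE x 1) = 86) : nz v = 78 := by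
  have h1 := T0d h 0
  rw [ZMod.val_zero, pow_zero, hd, cntE, if_pos rfl] at h1
  unfold nz
  omega

/-- **the glue** -/
theorem pair_glue {V1 V2 V3 : Fin 8 → ZMod 3}
    (PP : ∀ {a b : Fin 8 → ZMod 3}, nz a = 78 → nz b = 78 → nz (a + b) = 78 → nz (a - b) = 78 →
      ∃ L : List (Fin 8), L.foldr (fun j v => Cfsg.Agent.H944.Kac.srefl chevE8 8 j v) a = V1 ∧
        (L.foldr (fun j v => Cfsg.Agent.H944.Kac.srefl chevE8 8 j v) b = V2 ∨
          L.foldr (fun j v => Cfsg.Agent.H944.Kac.srefl chevE8 8 j v) b = V3))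
    (hζ : IsPrimitiveRoot ζ 3) (h1 : e1 ^ 3 = 1) (h2 : e2 ^ 3 = 1) (hc : Commute e1 e2)
    (hd : ∀ i j : ℕ, e1 ^ i * e2 ^ j ≠ 1 → Module.finrank KK (eig rE (e1 ^ i * e2 ^ j) 1) = 86)
    (hne1 : e1 ≠ 1) (hne2 : ∀ i : ℕ, e2 ≠ e1 ^ i) :
    PairZ e1 e2 V1 V2 ζ ∨ PairZ e1 e2 V1 V3 ζ := by
  obtain ⟨a, b, h⟩ := exists_pairZ hζ h1 h2 hc
  have n1 : nz a = 78 := nz_of hζ (h.tor1 hζ) (by
    have := hd 1 0
    rw [pow_one, pow_zero, mul_one] at this
    exact this hne1)
  have n2 : nz b = 78 := nz_of hζ (h.tor2 hζ) (by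
    have := hd 0 1
    rw [pow_one, pow_zero, one_mul] at this
    exact this (fun h => hne2 0 (by rw [h, pow_zero])))
  have n3 : nz (a + b) = 78 := nz_of hζ ((h.mul hζ).tor2 hζ) (by
    have := hd 1 1
    rw [pow_one, pow_one] at this
    refine this fun h => hne2 2 ?_
    calc e2 = e1 ^ 3 * e2 := by rw [h1, one_mul]
      _ = e1 ^ 2 * (e1 * e2) := by rw [pow_succ, mul_assoc]
      _ = _ := by rw [h, mul_one])
  have n4 : nz (a - b) = 78 := by
    rw [sub_eq_add_neg]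
    refine nz_of hζ (((h.sq hζ).mul hζ).tor2 hζ) ?_
    have := hd 1 2
    rw [pow_one, pow_two] at this
    refine this fun h => hne2 1 ?_
    rw [pow_one]
    calc e2 = e1 * (e2 * e2) * e2 := by rw [h, one_mul]
      _ = e1 * e2 ^ 3 := by simp only [pow_succ, pow_zero, one_mul, mul_assoc]
      _ = _ := by rw [h2, mul_one]
  obtain ⟨L, hL1, hL2 | hL2⟩ := PP n1 n2 n3 n4
  · left
    have := h.word hζ L
    rwa [hL1, hL2] at this
  · right
    have := h.word hζ L
    rwa [hL1, hL2] at this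

end Pair

end Cfsg.Agent.H544.L34
end

-- part: H259/L34/Dim
section
/-!
# S5917, C1: the dimensions of the fixed spaces of the elements of order 3, 5, 7 on the Lie algebra over `ZMod 2`
-/

set_option autoImplicit false
set_option linter.unusedSectionVars false
set_option maxRecDepth 100000

namespace Cfsg.Agent.H259.L34

open Cfsg Cfsg.Lie Cfsg.Lie.ChevalleyDatum
open Cfsg.Agent.ChevalleyStructure Cfsg.Agent.ChevalleyStructure.CoxeterGeom
  Cfsg.Agent.ChevalleyStructure.Elts Cfsg.Agent.ChevalleyStructure.CoxeterGeomTypes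
open Cfsg.Agent.Tits.Roots Cfsg.Agent.Nodes.Reps Cfsg.Agent.Nodes.BNOf Cfsg.Agent.Nodes.RGDChev
  Cfsg.Agent.KFacts.RgdChevCoord
open Cfsg.Agent.BpExc.TorChev Cfsg.Agent.BpExc.TowChev Cfsg.Agent.H129.TorusChar
open Cfsg.Agent.H942.E8Tab (e8T)
open Cfsg.Agent.H942.CB Cfsg.Agent.H944.RootVals Cfsg.Agent.H944.Kac Cfsg.Agent.H944.Tab
open Cfsg.Agent.H943.E8Tab (R8 th8 check2 alcove8 count_eq_sum sum_vecOf vecOf)
open Cfsg.Agent.H943.RepAdd (eig)
open Cfsg.Agent.H939.L64
open Cfsg.Agent.H413.L64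

/-- the matrix of an element of `E₈(2)` -/
abbrev mt (x : E2) : Matrix chevE8.Idx chevE8.Idx (ZMod 2) :=
  ((x : GL chevE8.Idx (ZMod 2)) : Matrix chevE8.Idx chevE8.Idx (ZMod 2))

/-- the matrix over `KK` -/
noncomputable abbrev mK (x : E2) : Matrix chevE8.Idx chevE8.Idx KK :=
  (((_root_.Cfsg.Agent.H939.L64.em x : ↥(chevE8.group KK)) : GL chevE8.Idx KK) : Matrix chevE8.Idx chevE8.Idx KK)

theorem mK_eq (x : E2) : mK x = (mt x).map (algebraMap (ZMod 2) KK) := by
  ext i j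
  exact em_entry x i j

/-- rank and fixed space -/
theorem ker_dim {k : Type} [Field k] {n : Type} [Fintype n] [DecidableEq n] (A : Matrix n n k) (T : (n → k) →ₗ[k] (n → k))
    (hT : ∀ v, T v = A.mulVec v) :
    (A - 1).rank + Module.finrank k (LinearMap.ker (T - LinearMap.id)) = Fintype.card n := by
  have h1 : T - LinearMap.id = (A - 1).mulVecLin := by
    refine LinearMap.ext fun v => ?_
    rw [LinearMap.sub_apply, hT, Matrix.mulVecLin_apply, Matrix.sub_mulVec, Matrix.one_mulVec]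
    rfl
  rw [h1]
  have h2 := LinearMap.finrank_range_add_finrank_ker (A - 1).mulVecLin
  rw [Module.finrank_fintype_fun_eq_card] at h2
  exact h2

/-- **the fixed space over `ZMod 2`** -/
theorem fin2 (x : E2) (T : L2 →ₗ[ZMod 2] L2) (hT : ∀ v, T v = a2 x v) :
    Module.finrank (ZMod 2) (LinearMap.ker (T - LinearMap.id)) = Module.finrank KK (eig rE x 1) := by
  classical
  have h1 := ker_dim (mt x) T hT
  have h2 := ker_dim (mK x) (rE x) (fun v => rfl)
  have h3 : (mK x - 1).rank = (mt x - 1).rank := by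
    rw [mK_eq, ← Cfsg.Agent.H953.rank_map (algebraMap (ZMod 2) KK) (mt x - 1)]
    congr 1
    ext i j
    simp only [Matrix.sub_apply, Matrix.map_apply, map_sub]
    congr 1
    rw [Matrix.one_apply, Matrix.one_apply]
    split_ifs <;> simp
  have h4 : eig rE x 1 = LinearMap.ker (rE x - LinearMap.id) := by
    unfold Cfsg.Agent.H943.RepAdd.eig
    rw [one_smul]
    rfl
  have h5 : (mt x - 1).rank + Module.finrank KK (eig rE x 1) = Fintype.card chevE8.Idx := by
    rw [← h3, h4]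
    exact h2
  exact Nat.add_left_cancel (h1.trans h5.symm)

/-- torus data of an element of odd order -/
theorem exists_tor {N : ℕ} [NeZero N] (hN : N.Coprime 2) {x : E2} (hx : x ^ N = 1) :
    ∃ (ζ : KK) (v : Fin 8 → ZMod N), TorZ x N v ζ := by
  obtain ⟨ζ, hζ⟩ := exists_zeta N hN
  obtain ⟨v, hv, -, -⟩ := T0c hN hx hζ
  exact ⟨ζ, v, hv⟩

/-- **order 3, over `KK`** -/
theorem eig3 {x : E2} (hx : x ^ 3 = 1) (h1 : x ≠ 1) :
    Module.finrank KK (eig rE x 1) = 134 ∨ Module.finrank KK (eig rE x 1) = 92 ∨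
      Module.finrank KK (eig rE x 1) = 86 ∨ Module.finrank KK (eig rE x 1) = 80 := by
  obtain ⟨ζ, v, h⟩ := exists_tor (N := 3) (by decide) hx
  rw [fix_eq h]
  exact cnt3 h h1

/-- **order 5, over `KK`** -/
theorem eig5 {x : E2} (hx : x ^ 5 = 1) (h1 : x ≠ 1) :
    Module.finrank KK (eig rE x 1) = 68 ∨ Module.finrank KK (eig rE x 1) = 48 := by
  obtain ⟨ζ, v, h⟩ := exists_tor (N := 5) (by decide) hx
  rw [fix_eq h]
  exact cnt5 h h1

/-- **order 7, over `KK`** -/
theorem eig7 {x : E2} (hx : x ^ 7 = 1) (h1 : x ≠ 1) :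
    Module.finrank KK (eig rE x 1) = 80 ∨ Module.finrank KK (eig rE x 1) = 38 := by
  obtain ⟨ζ, v, h⟩ := exists_tor (N := 7) (by decide) hx
  rw [fix_eq h]
  exact cnt7 h h1

/-! ### pure pairs -/

theorem chk3q : allAlc th8 3 (fun y => y == [0, 0, 0, 0, 0, 0, 0, 0] || (cz 3 y 0 == 126 && qf (vecOf 3 y) == 1) ||
    (cz 3 y 0 == 84 && qf (vecOf 3 y) == 2) || (cz 3 y 0 == 78 && qf (vecOf 3 y) == 0) ||
    (cz 3 y 0 == 72 && qf (vecOf 3 y) == 1)) = true := by decide +kernel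

/-- the value of `qf` of an element of order 3 in terms of the dimension -/
def qd (d : ℕ) : ZMod 3 := if d = 86 then 0 else if d = 92 then 2 else 1

theorem qf3 {x : E2} {v : Fin 8 → ZMod 3} {ζ : KK} (h : TorZ x 3 v ζ) (h1 : x ≠ 1) :
    qf v = qd (cntE v 0) := by
  obtain ⟨Y, hYl, hYθ, hY0, hT, hfr, hc⟩ := alc h h1
  have h2 := allAlc_spec th8 3 _ (by decide) chk3q Y hYl hYθ
  simp only [Bool.or_eq_true, Bool.and_eq_true, beq_iff_eq, hY0, false_or] at h2
  have h3 := qf_unique h hT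
  rw [hc 0, if_pos rfl, h3]
  rcases h2 with ((⟨h2, h4⟩ | ⟨h2, h4⟩) | ⟨h2, h4⟩) | ⟨h2, h4⟩ <;> rw [h2, h4] <;> rfl

theorem qf_par (a b : Fin 8 → ZMod 3) : qf (a + b) + qf (a + -b) = 2 * (qf a + qf b) := by
  unfold qf
  simp only [Pi.add_apply, Pi.neg_apply]
  ring

/-- **a pure pair has fixed dimension 86** -/
theorem pure86 {e1 e2 : E2} (h1 : e1 ^ 3 = 1) (h2 : e2 ^ 3 = 1) (hc : Commute e1 e2) (n1 : e1 ≠ 1) (n2 : e2 ≠ 1)
    (n3 : e1 * e2 ≠ 1) (n4 : e1 * (e2 * e2) ≠ 1)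
    (q2 : Module.finrank KK (eig rE e2 1) = Module.finrank KK (eig rE e1 1))
    (q3 : Module.finrank KK (eig rE (e1 * e2) 1) = Module.finrank KK (eig rE e1 1))
    (q4 : Module.finrank KK (eig rE (e1 * (e2 * e2)) 1) = Module.finrank KK (eig rE e1 1)) :
    Module.finrank KK (eig rE e1 1) = 86 := by
  obtain ⟨ζ, hζ⟩ := exists_zeta 3 (by decide)
  obtain ⟨a, b, h⟩ := Cfsg.Agent.H544.L34.exists_pairZ hζ h1 h2 hc
  have t1 := h.tor1 hζ
  have t2 := h.tor2 hζ
  have t3 := (h.mul hζ).tor2 hζ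
  have t4 := ((h.sq hζ).mul hζ).tor2 hζ
  have f1 := qf3 t1 n1
  have f2 := qf3 t2 n2
  have f3 := qf3 t3 n3
  have f4 := qf3 t4 n4
  rw [← fix_eq t1] at f1
  rw [← fix_eq t2, q2] at f2
  rw [← fix_eq t3, q3] at f3
  rw [← fix_eq t4, q4] at f4
  have h5 := qf_par a b
  rw [f1, f2, f3, f4] at h5
  have h6 : qd (Module.finrank KK (eig rE e1 1)) = 0 := by
    revert h5
    generalize qd (Module.finrank KK (eig rE e1 1)) = x
    revert x
    decide
  by_contra h7
  unfold qd at h6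
  rw [if_neg h7] at h6
  split_ifs at h6
  · exact absurd h6 (by decide)
  · exact absurd h6 (by decide)

end Cfsg.Agent.H259.L34
end

private theorem dce_9c62c133ce31 : _root_.True := by
  try have : _root_.True := by simp only [_root_.Cfsg.Agent.H259.L34.CM.eq_1]
  try have : _root_.True := by simp only [_root_.Cfsg.Agent.H259.L34.qf.eq_1]
  exact _root_.True.intro
end

-- part: H259/L34/DimS
section
prune_inst 0x2444400000000000051000000040400000900043040055c20106000e724209000e00c8800b10002280002000000001000030401000000000040040000020888252063240a100660007001084000000000000000000000000000000041000000000000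
set_option linter.all false
open scoped Cfsg.Agent.FastGrp

-- part: H20/LF/NineQ
section
/-!
# S5917: the normalizer of a Sylow `3`-subgroup of `PSL(3,4)` (helper20)

For `S` with the facts `B34` of `PSL(3,4)` and `E ≤ S` of order `9`:

* `exp_three`, `exists_Q` : `x ^ 3 = 1` on `E`; there is `Q ≤ N_S(E)` of order `8` acting regularly on `E # `;
* `exists_z` : the involution `z` of `Q` inverts `E`;
* `exists_Q8` : for any two generators `e1`, `e2` of `E` there are `i`, `j` in `Q` with `i ^ 2 = j ^ 2 = z`, `i j i⁻¹ = j⁻¹`, acting on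
  `e1`, `e2` by the standard matrices of the quaternion group of `GL(2,3)`.
-/

set_option autoImplicit false
set_option linter.unusedSectionVars false

namespace Cfsg.Agent.H20.LF

open Subgroup Cfsg.Agent.H793.RIM

universe u

variable {S : Type u} [Group S]

theorem exp_three (hS : B34 S) {E : Subgroup S} (hE : Nat.card E = 9) {x : S} (hx : x ∈ E) : x ^ 3 = 1 := by
  by_cases h1 : x = 1
  · rw [h1, one_pow]
  · rw [← hS.order_mem Nat.prime_three (Or.inr ⟨rfl, hE⟩) hx h1]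
    exact pow_orderOf_eq_one x

theorem cent_nine (hS : B34 S) {E : Subgroup S} (hE : Nat.card E = 9) {x y : S} (hx : x ∈ E) (hx1 : x ≠ 1)
    (hy : y * x = x * y) : y ∈ E := by
  have h1 := hS.cent_eq (a := 2) Nat.prime_three (by rw [hE]; norm_num) (by right; right; exact ⟨rfl, rfl⟩) hx hx1
  rw [← h1, mem_centralizer_singleton_iff]
  exact hy

/-- the properties of the complement `Q` of `E` in `N_S(E)` -/
structure IsCompl8 (E Q : Subgroup S) : Prop where
  card : Nat.card Q = 8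
  norm : ∀ q ∈ Q, ∀ x ∈ E, q * x * q⁻¹ ∈ E
  fpf : ∀ q ∈ Q, ∀ x ∈ E, x ≠ 1 → q * x * q⁻¹ = x → q = 1
  trans : ∀ x ∈ E, ∀ y ∈ E, x ≠ 1 → y ≠ 1 → ∃ q ∈ Q, q * x * q⁻¹ = y

theorem exists_Q (hS : B34 S) {E : Subgroup S} (hE : Nat.card E = 9) : ∃ Q : Subgroup S, IsCompl8 E Q := by
  classical
  have hfin := hS.finite
  have hf : Fact (Nat.Prime 2) := ⟨Nat.prime_two⟩
  have hN := hS.norm9 hE
  obtain ⟨P⟩ : Nonempty (Sylow 2 (normalizer (E : Set S))) := inferInstance
  have hP : Nat.card P = 8 := by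
    have h1 := P.card_eq_multiplicity
    rw [hN] at h1
    have h2 : (72 : ℕ).factorization 2 = 3 := by
      rw [show 72 = 2 ^ 3 * 9 by norm_num, Nat.factorization_mul (by norm_num) (by norm_num),
        Nat.Prime.factorization_pow Nat.prime_two]
      simp [Nat.factorization_eq_zero_of_not_dvd]
    rw [h2] at h1
    rw [h1]; norm_num
  let Q : Subgroup S := (P : Subgroup (normalizer (E : Set S))).map (Subgroup.subtype _)
  have hQ : Nat.card Q = 8 := by
    rw [← hP]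
    exact Subgroup.card_map_of_injective (Subgroup.subtype_injective _)
  have hQN : ∀ q ∈ Q, ∀ x ∈ E, q * x * q⁻¹ ∈ E := by
    rintro _ ⟨q, -, rfl⟩ x hx
    exact (mem_normalizer_iff.1 q.2 x).1 hx
  have hfpf : ∀ q ∈ Q, ∀ x ∈ E, x ≠ 1 → q * x * q⁻¹ = x → q = 1 := by
    intro q hq x hx hx1 h
    have h1 : q ∈ E := cent_nine hS hE hx hx1 (by rw [mul_inv_eq_iff_eq_mul] at h; exact h)
    have h2 : orderOf q ∣ 8 := by
      rw [← hQ]
      have := _root_.orderOf_dvd_natCard (⟨q, hq⟩ : Q)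
      rwa [Subgroup.orderOf_mk] at this
    have h3 : orderOf q ∣ 9 := by
      rw [← hE]
      have := _root_.orderOf_dvd_natCard (⟨q, h1⟩ : E)
      rwa [Subgroup.orderOf_mk] at this
    exact orderOf_eq_one_iff.1 (Nat.eq_one_of_dvd_coprimes (by norm_num : Nat.Coprime 8 9) h2 h3)
  refine ⟨Q, hQ, hQN, hfpf, fun x hx y hy hx1 hy1 => ?_⟩
  -- the orbit map is injective, so bijective
  let f : Q → {e : E // e ≠ 1} := fun q => ⟨⟨q * x * (q : S)⁻¹, hQN q q.2 x hx⟩, fun h => by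
    have h1 : (q : S) * x * (q : S)⁻¹ = 1 := congrArg Subtype.val h
    rw [mul_inv_eq_one] at h1
    exact hx1 (mul_eq_left.1 h1)⟩
  have hfi : Function.Injective f := by
    intro q r h
    have h1 : (q : S) * x * (q : S)⁻¹ = r * x * (r : S)⁻¹ := congrArg (fun e => ((e : E) : S)) (congrArg Subtype.val h)
    have h2 : ((r : S)⁻¹ * q) * x * ((r : S)⁻¹ * q)⁻¹ = x := by
      calc ((r : S)⁻¹ * q) * x * ((r : S)⁻¹ * q)⁻¹ = (r : S)⁻¹ * (q * x * (q : S)⁻¹) * r := by group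
        _ = (r : S)⁻¹ * (r * x * (r : S)⁻¹) * r := by rw [h1]
        _ = x := by group
    have h3 := hfpf _ (Q.mul_mem (Q.inv_mem r.2) q.2) x hx hx1 h2
    rw [inv_mul_eq_one] at h3
    exact Subtype.ext h3.symm
  have hcard : Nat.card Q = Nat.card {e : E // e ≠ 1} := by
    have h1 : Nat.card {e : E // e ≠ 1} = Nat.card E - 1 := by
      let _ : Fintype E := Fintype.ofFinite E
      rw [Nat.card_eq_fintype_card, Nat.card_eq_fintype_card, Fintype.card_subtype_compl, Fintype.card_subtype_eq]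
    rw [h1, hE, hQ]
  have hbij := (Nat.bijective_iff_injective_and_card f).2 ⟨hfi, hcard⟩
  obtain ⟨q, hq⟩ := hbij.2 ⟨⟨y, hy⟩, fun h => hy1 (congrArg Subtype.val h)⟩
  exact ⟨q, q.2, congrArg (fun e => ((e : E) : S)) (congrArg Subtype.val hq)⟩

section
variable {E Q : Subgroup S}

/-- elements of `Q` are determined by the image of one element -/
theorem IsCompl8.ext (hQ : IsCompl8 E Q) {q r : S} (hq : q ∈ Q) (hr : r ∈ Q) {x : S} (hx : x ∈ E) (hx1 : x ≠ 1)
    (h : q * x * q⁻¹ = r * x * r⁻¹) : q = r := by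
  have h2 : (r⁻¹ * q) * x * (r⁻¹ * q)⁻¹ = x := by
    calc (r⁻¹ * q) * x * (r⁻¹ * q)⁻¹ = r⁻¹ * (q * x * q⁻¹) * r := by group
      _ = r⁻¹ * (r * x * r⁻¹) * r := by rw [h]
      _ = x := by group
  have h3 := hQ.fpf _ (Q.mul_mem (Q.inv_mem hr) hq) x hx hx1 h2
  rw [inv_mul_eq_one] at h3
  exact h3.symm

end

end Cfsg.Agent.H20.LF
end

-- part: H259/L34/DimS
section
/-!
# S5917, C1: the dimensions of the fixed spaces of the elements of order 3, 5, 7 of `PSL(3,4)` in `E₈(2)`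

* `dims_kk` : over `KK` (`finrank KK (eig rE (f s) 1)`);
* `dims_two` : over `ZMod 2`;
* `dims_sl` : `Dims ρ ⊤ 248 86 n5 n7` for a representation `ρ` of `SL(3,4)` on `L2` through `f`.
-/

set_option autoImplicit false
set_option linter.unusedSectionVars false
set_option maxRecDepth 100000
set_option maxHeartbeats 400000

namespace Cfsg.Agent.H259.L34

open scoped Pointwise
open Subgroup Cfsg Cfsg.Lie Cfsg.Lie.ChevalleyDatum
open Cfsg.Agent.ChevalleyStructure
open Cfsg.Agent.H793.RIM Cfsg.Agent.H20.LF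
open Cfsg.Agent.H943.RepAdd (eig mem_eig)
open Cfsg.Agent.H939.L64
open Cfsg.Agent.H691.L34 (G3 M3 fx Dims)

/-! ### Sylow subgroups of prime order -/

section

universe u
variable {G : Type u} [Group G] [Finite G]

/-- elements of a prime order `p`, `p² ∤ |G|` -/
theorem conj_prime {p : ℕ} [Fact p.Prime] (hp : ¬ p ^ 2 ∣ Nat.card G) {x y : G} (hx : orderOf x = p) (hy : orderOf y = p) :
    ∃ g : G, zpowers y = zpowers (g * x * g⁻¹) := by
  obtain ⟨P, hP⟩ := (IsPGroup.of_card (G := zpowers x) (p := p) (n := 1) (by rw [Nat.card_zpowers, hx, pow_one])).exists_le_sylow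
  obtain ⟨Q, hQ⟩ := (IsPGroup.of_card (G := zpowers y) (p := p) (n := 1) (by rw [Nat.card_zpowers, hy, pow_one])).exists_le_sylow
  have key : ∀ (R : Sylow p G) (z : G), orderOf z = p → zpowers z ≤ R → (R : Subgroup G) = zpowers z := by
    intro R z hz h
    symm
    apply Subgroup.eq_of_le_of_card_ge h
    obtain ⟨n, hn⟩ := IsPGroup.iff_card.1 R.isPGroup'
    rw [Nat.card_zpowers, hz, hn]
    have h1 : n < 2 := by
      by_contra h2
      push Not at h2
      exact hp (((pow_dvd_pow p h2).trans (by rw [← hn])).trans (Subgroup.card_subgroup_dvd_card _))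
    calc p ^ n ≤ p ^ 1 := Nat.pow_le_pow_right (Fact.out : p.Prime).pos (by omega)
      _ = p := pow_one p
  have hP' := key P x hx hP
  have hQ' := key Q y hy hQ
  obtain ⟨g, hg⟩ := MulAction.exists_smul_eq G P Q
  refine ⟨g, ?_⟩
  rw [← hQ', ← hg]
  show ((MulAut.conj g • (P : Subgroup G)) : Subgroup G) = _
  rw [hP']
  show (zpowers x).map (MulAut.conj g).toMonoidHom = _
  rw [MonoidHom.map_zpowers]
  rfl

end

section

variable {k : Type*} [Field k] {G : Type*} [Group G] {V : Type*} [AddCommGroup V] [Module k V] (ρ : Representation k G V)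

theorem rep_inv_mul (g : G) (v : V) : ρ g⁻¹ (ρ g v) = v := by
  rw [← Module.End.mul_apply, ← map_mul, inv_mul_cancel, map_one, Module.End.one_apply]

theorem rep_mul_inv (g : G) (v : V) : ρ g (ρ g⁻¹ v) = v := by
  rw [← Module.End.mul_apply, ← map_mul, mul_inv_cancel, map_one, Module.End.one_apply]

/-- the linear equivalence of a group element -/
def repEquiv (h : G) : V ≃ₗ[k] V where
  toFun v := ρ h v
  invFun v := ρ h⁻¹ v
  map_add' := map_add _
  map_smul' := map_smul _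
  left_inv v := rep_inv_mul ρ h v
  right_inv v := rep_mul_inv ρ h v

theorem eigG_conj (g h : G) : Module.finrank k (eig ρ (h * g * h⁻¹) 1) = Module.finrank k (eig ρ g 1) := by
  have h1 : eig ρ (h * g * h⁻¹) 1 = (eig ρ g 1).map ((repEquiv ρ h : V ≃ₗ[k] V) : V →ₗ[k] V) := by
    ext v
    rw [Submodule.mem_map, mem_eig, one_smul]
    constructor
    · intro hv
      refine ⟨ρ h⁻¹ v, ?_, rep_mul_inv ρ h v⟩
      rw [mem_eig, one_smul]
      rw [map_mul, map_mul, Module.End.mul_apply, Module.End.mul_apply] at hv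
      rw [← rep_inv_mul ρ h (ρ g (ρ h⁻¹ v)), hv]
    · rintro ⟨w, hw, rfl⟩
      rw [mem_eig, one_smul] at hw
      show ρ (h * g * h⁻¹) (ρ h w) = ρ h w
      rw [map_mul, map_mul, Module.End.mul_apply, Module.End.mul_apply, rep_inv_mul, hw]
  rw [h1]
  exact LinearEquiv.finrank_map_eq _ _

theorem eigG_le {g h : G} (hg : g ∈ zpowers h) : eig ρ h 1 ≤ eig ρ g 1 := by
  obtain ⟨n, rfl⟩ := hg
  have key : ∀ v, ρ h v = v → ∀ m : ℕ, ρ (h ^ m) v = v := by
    intro v hv m
    induction m with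
    | zero => rw [pow_zero, map_one, Module.End.one_apply]
    | succ m ih => rw [pow_succ, map_mul, Module.End.mul_apply, hv, ih]
  intro v hv
  rw [mem_eig, one_smul] at hv ⊢
  obtain ⟨m, hm | hm⟩ := n.eq_nat_or_neg
  · rw [hm]
    simp only [zpow_natCast]
    exact key v hv m
  · rw [hm]
    simp only [zpow_neg, zpow_natCast]
    have h1 := key v hv m
    conv_lhs => rw [← h1]
    rw [rep_inv_mul]

theorem eigG_congr {g h : G} (hgh : zpowers g = zpowers h) : eig ρ g 1 = eig ρ h 1 :=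
  le_antisymm (eigG_le ρ (by rw [hgh]; exact mem_zpowers h)) (eigG_le ρ (by rw [← hgh]; exact mem_zpowers g))

end

theorem eig_conj (g h : E2) : Module.finrank KK (eig rE (h * g * h⁻¹) 1) = Module.finrank KK (eig rE g 1) :=
  eigG_conj rE g h

theorem eig_congr {g h : E2} (hgh : zpowers g = zpowers h) : eig rE g 1 = eig rE h 1 := eigG_congr rE hgh

section

variable {S : Type*} [Group S]

variable (f : S →* E2) (hf : Function.Injective f) (hS : B34 S)
include hf hS

theorem eig_conj' (s t : S) : Module.finrank KK (eig rE (f (t * s * t⁻¹)) 1) = Module.finrank KK (eig rE (f s) 1) := by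
  rw [map_mul, map_mul, map_inv]
  exact eig_conj _ _

/-- prime order -/
theorem eig_prime {p : ℕ} [Fact p.Prime] (hp : ¬ p ^ 2 ∣ Nat.card S) {x y : S} (hx : orderOf x = p) (hy : orderOf y = p) :
    Module.finrank KK (eig rE (f y) 1) = Module.finrank KK (eig rE (f x) 1) := by
  have := hS.finite
  obtain ⟨g, hg⟩ := conj_prime hp hx hy
  rw [← eig_conj' f hf hS x g]
  have h1 : zpowers (f y) = zpowers (f (g * x * g⁻¹)) := by
    rw [← MonoidHom.map_zpowers, ← MonoidHom.map_zpowers, hg]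
  rw [eig_congr h1]

/-- order 3 -/
theorem eig_three {x : S} (hx : x ^ 3 = 1) (hx1 : x ≠ 1) : Module.finrank KK (eig rE (f x) 1) = 86 := by
  have hfin := hS.finite
  have hF3 : Fact (Nat.Prime 3) := ⟨Nat.prime_three⟩
  have hox : orderOf x = 3 := orderOf_eq_prime hx hx1
  obtain ⟨P, hP⟩ := (IsPGroup.of_card (G := zpowers x) (p := 3) (n := 1) (by rw [Nat.card_zpowers, hox, pow_one])).exists_le_sylow
  have hE : Nat.card (P : Subgroup S) = 9 := by
    have h1 := P.card_eq_multiplicity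
    rw [hS.card] at h1
    have h2 : (20160 : ℕ).factorization 3 = 2 := by
      rw [show 20160 = 3 ^ 2 * 2240 by norm_num, Nat.factorization_mul (by norm_num) (by norm_num),
        Nat.Prime.factorization_pow Nat.prime_three]
      simp [Nat.factorization_eq_zero_of_not_dvd]
    rw [h2] at h1
    rw [h1]; norm_num
  have h1 : x ∈ (P : Subgroup S) := hP (mem_zpowers x)
  obtain ⟨e2, h2, h12⟩ : ∃ y ∈ (P : Subgroup S), y ∉ zpowers x := by
    by_contra hcon
    push Not at hcon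
    have h3 : Nat.card (P : Subgroup S) ∣ Nat.card (zpowers x) := Subgroup.card_dvd_of_le hcon
    rw [hE, Nat.card_zpowers, hox] at h3
    norm_num at h3
  obtain ⟨Q, hQ⟩ := exists_Q hS hE
  have h21 : e2 ≠ 1 := fun h => h12 (by rw [h]; exact one_mem _)
  have n3 : x * e2 ≠ 1 := by
    intro h
    apply h12
    rw [mul_eq_one_iff_inv_eq] at h
    rw [← h]
    exact inv_mem (mem_zpowers x)
  have n4 : x * (e2 * e2) ≠ 1 := by
    intro h
    apply h12
    have h3 : e2 ^ 3 = 1 := exp_three hS hE h2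
    rw [mul_eq_one_iff_inv_eq] at h
    have h4 : e2 = x := by
      calc e2 = (e2 * e2)⁻¹ * e2 ^ 3 := by group
        _ = x := by rw [h3, ← h]; group
    rw [h4]
    exact mem_zpowers x
  have tr : ∀ y ∈ (P : Subgroup S), y ≠ 1 → Module.finrank KK (eig rE (f y) 1) = Module.finrank KK (eig rE (f x) 1) := by
    intro y hy hy1
    obtain ⟨q, -, hq⟩ := hQ.trans x h1 y hy hx1 hy1
    rw [← hq]
    exact eig_conj' f hf hS x q
  have key := pure86 (e1 := f x) (e2 := f e2) (by rw [← map_pow, hx, map_one])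
    (by rw [← map_pow, exp_three hS hE h2, map_one])
    (by
      show f x * f e2 = f e2 * f x
      rw [← map_mul, ← map_mul, comm_nine hE h1 h2])
    (fun h => hx1 (hf (by rw [h, map_one]))) (fun h => h21 (hf (by rw [h, map_one])))
    (fun h => n3 (hf (by rw [map_mul, h, map_one]))) (fun h => n4 (hf (by rw [map_mul, map_mul, h, map_one])))
    (tr e2 h2 h21)
    (by rw [← map_mul]; exact tr _ (mul_mem h1 h2) n3)
    (by rw [← map_mul, ← map_mul]; exact tr _ (mul_mem h1 (mul_mem h2 h2)) n4)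
  exact key

/-- **the dimensions over `KK`** -/
theorem dims_kk : ∃ n5 n7 : ℕ, (n5 = 68 ∨ n5 = 48) ∧ (n7 = 80 ∨ n7 = 38) ∧
    (∀ s : S, orderOf s = 3 → Module.finrank KK (eig rE (f s) 1) = 86) ∧
    (∀ s : S, orderOf s = 5 → Module.finrank KK (eig rE (f s) 1) = n5) ∧
    ∀ s : S, orderOf s = 7 → Module.finrank KK (eig rE (f s) 1) = n7 := by
  have hfin := hS.finite
  have hF5 : Fact (Nat.Prime 5) := ⟨Nat.prime_five⟩
  have hF7 : Fact (Nat.Prime 7) := ⟨by norm_num⟩
  obtain ⟨x5, h5⟩ := exists_prime_orderOf_dvd_card' (G := S) 5 (by rw [hS.card]; norm_num)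
  obtain ⟨x7, h7⟩ := exists_prime_orderOf_dvd_card' (G := S) 7 (by rw [hS.card]; norm_num)
  have ne : ∀ {x : S} {p : ℕ}, orderOf x = p → 1 < p → f x ^ p = 1 ∧ f x ≠ 1 := by
    intro x p hx hp
    refine ⟨by rw [← map_pow, ← hx, pow_orderOf_eq_one, map_one], fun h => ?_⟩
    have h1 : x = 1 := hf (by rw [h, map_one])
    rw [h1, orderOf_one] at hx
    omega
  refine ⟨Module.finrank KK (eig rE (f x5) 1), Module.finrank KK (eig rE (f x7) 1), ?_, ?_, ?_, ?_, ?_⟩
  · exact eig5 (ne h5 (by norm_num)).1 (ne h5 (by norm_num)).2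
  · exact eig7 (ne h7 (by norm_num)).1 (ne h7 (by norm_num)).2
  · intro s hs
    exact eig_three f hf hS (by rw [← hs]; exact pow_orderOf_eq_one s) (fun h => by rw [h, orderOf_one] at hs; omega)
  · intro s hs
    exact eig_prime f hf hS (p := 5) (by rw [hS.card]; norm_num) h5 hs
  · intro s hs
    exact eig_prime f hf hS (p := 7) (by rw [hS.card]; norm_num) h7 hs

end

/-! ### the special linear group -/

section

variable {F : Type} [Field F] [Fintype F]

open Matrix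

theorem cube_of_center {g : G3 F} (hg : g ∈ Subgroup.center (G3 F)) : g ^ 3 = 1 := by
  obtain ⟨r, hr, h⟩ := Matrix.SpecialLinearGroup.mem_center_iff.1 hg
  rw [Fintype.card_fin] at hr
  apply Subtype.ext
  rw [Matrix.SpecialLinearGroup.coe_pow, ← h, ← map_pow, hr, map_one]
  rfl

theorem ord_mk {g : G3 F} {p : ℕ} [Fact p.Prime] (hg : orderOf g = p) (hc : g ∉ Subgroup.center (G3 F)) :
    orderOf (QuotientGroup.mk' (Subgroup.center (G3 F)) g) = p := by
  apply orderOf_eq_prime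
  · rw [← map_pow, ← hg, pow_orderOf_eq_one, map_one]
  · intro h
    exact hc ((QuotientGroup.eq_one_iff g).1 h)

theorem not_center {g : G3 F} {p : ℕ} (hg : orderOf g = p) (hp : ¬ p ∣ 3) : g ∉ Subgroup.center (G3 F) := fun h =>
  hp (by rw [← hg]; exact orderOf_dvd_of_pow_eq_one (cube_of_center h))

theorem card_idx : Fintype.card chevE8.Idx = 248 := by
  show Fintype.card (Fin chevE8.rank ⊕ Fin chevE8.nroots) = 248
  rw [Fintype.card_sum, Fintype.card_fin, Fintype.card_fin]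
  rfl

/-- **the dimensions** -/
theorem dims_sl (hB : B34 (ProjectiveSpecialLinearGroup (Fin 3) F)) (f : ProjectiveSpecialLinearGroup (Fin 3) F →* E2)
    (hf : Function.Injective f) (ρ : Representation (ZMod 2) (G3 F) L2)
    (hρ : ∀ g v, ρ g v = a2 (f (QuotientGroup.mk' (Subgroup.center (G3 F)) g)) v) :
    ∃ n5 n7 : ℕ, (n5 = 68 ∨ n5 = 48) ∧ (n7 = 80 ∨ n7 = 38) ∧ Dims ρ (⊤ : Submodule (ZMod 2) L2) 248 86 n5 n7 := by
  have hF3 : Fact (Nat.Prime 3) := ⟨Nat.prime_three⟩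
  have hF5 : Fact (Nat.Prime 5) := ⟨Nat.prime_five⟩
  have hF7 : Fact (Nat.Prime 7) := ⟨by norm_num⟩
  obtain ⟨n5, n7, h5, h7, k3, k5, k7⟩ := dims_kk f hf hB
  have key : ∀ g : G3 F, Module.finrank (ZMod 2) (fx ρ g (⊤ : Submodule (ZMod 2) L2)) =
      Module.finrank KK (eig rE (f (QuotientGroup.mk' (Subgroup.center (G3 F)) g)) 1) := by
    intro g
    have h1 : fx ρ g (⊤ : Submodule (ZMod 2) L2) = LinearMap.ker (ρ g - LinearMap.id) := top_inf_eq _
    rw [h1]
    exact fin2 _ (ρ g) (hρ g)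
  refine ⟨n5, n7, h5, h7, ?_, ?_, ?_, ?_⟩
  · rw [finrank_top, Module.finrank_fintype_fun_eq_card, card_idx]
  · intro g hg hc
    rw [key]
    exact k3 _ (ord_mk hg hc)
  · intro g hg
    rw [key]
    exact k5 _ (ord_mk hg (not_center hg (by norm_num)))
  · intro g hg
    rw [key]
    exact k7 _ (ord_mk hg (not_center hg (by norm_num)))

end

end Cfsg.Agent.H259.L34
end
end

-- part: H259/L34/VE
section
prune_inst 0x300061047400000000180010020000606400009200400000408000060949224220010801b2b0011000a80cd070080040001000200000000000000400000000208882400022000100460007000000000000000000000000000000000000000000000000000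
set_option linter.all false
open scoped Cfsg.Agent.FastGrp

/-!
# S5917: the fixed space of an elementary abelian group of order 9

* `wiel` : `dim V + 3 dim (V^A ⊓ V^B) = dim V^A + dim V^B + dim V^(AB) + dim V^(ABB)` for commuting `A`, `B` with
  `A ^ 3 = B ^ 3 = 1` in characteristic 2;
* `fix_nine` : `32` for `V = LK`; `fix_nine_two` : for `L2`.
-/

set_option autoImplicit false
set_option linter.unusedSectionVars false
set_option maxRecDepth 100000
set_option maxHeartbeats 400000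

namespace Cfsg.Agent.H259.L34

open Subgroup Cfsg Cfsg.Lie Cfsg.Lie.ChevalleyDatum
open Cfsg.Agent.ChevalleyStructure
open Cfsg.Agent.H793.RIM Cfsg.Agent.H20.LF
open Cfsg.Agent.H943.RepAdd (eig mem_eig)
open Cfsg.Agent.H939.L64
open Cfsg.Agent.H691.L34 (G3 M3 fx Dims)

section Idem

variable {k V : Type*} [Field k] [AddCommGroup V] [Module k V] [Module.Finite k V]

/-- the rank of an endomorphism -/
noncomputable def rk (p : Module.End k V) : ℕ := Module.finrank k (LinearMap.range p)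

theorem rk_add {p q : Module.End k V} (hp : p * p = p) (hq : q * q = q) (hpq : p * q = 0) (hqp : q * p = 0) :
    rk (p + q) = rk p + rk q := by
  have h1 : LinearMap.range (p + q) = LinearMap.range p ⊔ LinearMap.range q := by
    apply le_antisymm
    · rintro _ ⟨v, rfl⟩
      exact Submodule.add_mem_sup ⟨v, rfl⟩ ⟨v, rfl⟩
    · apply sup_le
      · rintro _ ⟨v, rfl⟩
        refine ⟨p v, ?_⟩
        rw [LinearMap.add_apply, ← Module.End.mul_apply, ← Module.End.mul_apply, hp, hqp, LinearMap.zero_apply, add_zero]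
      · rintro _ ⟨v, rfl⟩
        refine ⟨q v, ?_⟩
        rw [LinearMap.add_apply, ← Module.End.mul_apply, ← Module.End.mul_apply, hq, hpq, LinearMap.zero_apply, zero_add]
  have h2 : LinearMap.range p ⊓ LinearMap.range q = ⊥ := by
    rw [eq_bot_iff]
    rintro x ⟨⟨a, ha⟩, ⟨b, hb⟩⟩
    have h3 : p x = x := by rw [← ha, ← Module.End.mul_apply, hp]
    have h4 : p x = 0 := by rw [← hb, ← Module.End.mul_apply, hpq, LinearMap.zero_apply]
    rw [Submodule.mem_bot, ← h3, h4]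
  have h5 := Submodule.finrank_sup_add_finrank_inf_eq (LinearMap.range p) (LinearMap.range q)
  rw [h2, finrank_bot, add_zero, ← h1] at h5
  exact h5

variable {R : Type*} [CommRing R] (φ : R →+* Module.End k V)

theorem rk_add' {x y : R} (hx : x * x = x) (hy : y * y = y) (hxy : x * y = 0) : rk (φ (x + y)) = rk (φ x) + rk (φ y) := by
  rw [map_add]
  refine rk_add ?_ ?_ ?_ ?_
  · rw [← map_mul, hx]
  · rw [← map_mul, hy]
  · rw [← map_mul, hxy, map_zero]
  · rw [← map_mul, mul_comm, hxy, map_zero]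

theorem wiel_ring {a b : R} (h2 : (2 : R) = 0) (ha : a ^ 3 = 1) (hb : b ^ 3 = 1) :
    rk (φ 1) + 3 * rk (φ ((1 + a + a * a) * (1 + b + b * b))) = rk (φ (1 + a + a * a)) + rk (φ (1 + b + b * b)) +
      rk (φ (1 + a * b + a * b * (a * b))) + rk (φ (1 + a * b * b + a * b * b * (a * b * b))) := by
  have idem : ∀ x : R, x ^ 3 = 1 → (1 + x + x * x) * (1 + x + x * x) = 1 + x + x * x := fun x hx => by
    linear_combination x * hx + (x ^ 3 + x ^ 2 + x) * h2
  have hab : (a * b) ^ 3 = 1 := by rw [mul_pow, ha, hb, one_mul]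
  have habb : (a * b * b) ^ 3 = 1 := by rw [mul_pow, hab, hb, one_mul]
  have i1 := idem a ha
  have i2 := idem b hb
  have i3 := idem _ hab
  have i4 := idem _ habb
  obtain ⟨P1, hP1⟩ : ∃ P, P = 1 + a + a * a := ⟨_, rfl⟩
  obtain ⟨P2, hP2⟩ : ∃ P, P = 1 + b + b * b := ⟨_, rfl⟩
  obtain ⟨P3, hP3⟩ : ∃ P, P = 1 + a * b + a * b * (a * b) := ⟨_, rfl⟩
  obtain ⟨P4, hP4⟩ : ∃ P, P = 1 + a * b * b + a * b * b * (a * b * b) := ⟨_, rfl⟩
  rw [← hP1, ← hP2, ← hP3, ← hP4]
  rw [← hP1] at i1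
  rw [← hP2] at i2
  rw [← hP3] at i3
  rw [← hP4] at i4
  have a1 : a * P1 = P1 := by rw [hP1]; linear_combination ha
  have a2 : b * P2 = P2 := by rw [hP2]; linear_combination hb
  have a3 : a * b * P3 = P3 := by rw [hP3]; linear_combination hab
  have e13 : P1 * P3 = P1 * P2 := by rw [hP3, hP2]; linear_combination (b + a * b * b + b * b) * a1
  have e14 : P1 * P4 = P1 * P2 := by
    have h4 : P4 = 1 + a * b * b + a * a * b := by rw [hP4]; linear_combination a * a * b * hb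
    rw [h4, hP2]; linear_combination (b * b + a * b + b) * a1
  have e23 : P2 * P3 = P1 * P2 := by rw [hP3, hP1]; linear_combination (a + a * a * b + a * a) * a2
  have e24 : P2 * P4 = P1 * P2 := by
    have h4 : P4 = 1 + a * b * b + a * a * b := by rw [hP4]; linear_combination a * a * b * hb
    rw [h4, hP1]; linear_combination (a * b + a + a * a) * a2
  have e34 : P3 * P4 = P1 * P2 := by
    have h4 : P4 = 1 + a * b * b + a * a * b := by rw [hP4]; linear_combination a * a * b * hb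
    rw [← e13, h4, hP1]
    -- `b P3 = a² P3`
    have h5 : b * P3 = a * a * P3 := by linear_combination (-b * P3) * ha + a * a * a3
    linear_combination (a * b + 1 + a * a) * h5 + (b * P3 + a * P3) * ha
  have ee : (P1 * P2) * (P1 * P2) = P1 * P2 := by
    calc (P1 * P2) * (P1 * P2) = (P1 * P1) * (P2 * P2) := by ring
      _ = _ := by rw [i1, i2]
  have s : P1 + P2 + P3 + P4 = 1 + P1 * P2 := by
    have h4 : P4 = 1 + a * b * b + a * a * b := by rw [hP4]; linear_combination a * a * b * hb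
    rw [h4, hP3, hP2, hP1]
    linear_combination h2
  obtain ⟨e, he⟩ : ∃ e, e = P1 * P2 := ⟨_, rfl⟩
  rw [← he] at e13 e14 e23 e24 e34 ee s ⊢
  have E1 : e * P1 = e := by rw [he]; linear_combination P2 * i1
  have E2' : e * P2 = e := by rw [he]; linear_combination P1 * i2
  have E3 : e * P3 = e := by linear_combination P3 * he + P2 * e13 + E2'
  have E4 : e * P4 = e := by linear_combination P4 * he + P2 * e14 + E2'
  have hd : ∀ P : R, P * P = P → e * P = e → (P - e) * (P - e) = P - e := fun P h h' => by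
    linear_combination h - 2 * h' + ee
  have ho : ∀ P Q : R, P * Q = e → e * P = e → e * Q = e → (P - e) * (Q - e) = 0 := fun P Q h h' h'' => by
    linear_combination h - h' - h'' + ee
  have he0 : ∀ P : R, e * P = e → e * (P - e) = 0 := fun P h => by linear_combination h - ee
  have r1 : ∀ P : R, P * P = P → e * P = e → rk (φ P) = rk (φ e) + rk (φ (P - e)) := fun P h h' => by
    rw [← rk_add' φ ee (hd P h h') (he0 P h')]
    congr 2
    ring
  have R1 := r1 P1 i1 E1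
  have R2 := r1 P2 i2 E2'
  have R3 := r1 P3 i3 E3
  have R4 := r1 P4 i4 E4
  have o12 := ho P1 P2 he.symm E1 E2'
  have o13 := ho P1 P3 e13 E1 E3
  have o14 := ho P1 P4 e14 E1 E4
  have o23 := ho P2 P3 e23 E2' E3
  have o24 := ho P2 P4 e24 E2' E4
  have o34 := ho P3 P4 e34 E3 E4
  have d1 := hd P1 i1 E1
  have d2 := hd P2 i2 E2'
  have d3 := hd P3 i3 E3
  have d4 := hd P4 i4 E4
  have z1 := he0 P1 E1
  have z2 := he0 P2 E2'
  have z3 := he0 P3 E3
  have z4 := he0 P4 E4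
  have R5 := rk_add' φ ee d1 z1
  have R6 := rk_add' φ (x := e + (P1 - e)) (y := P2 - e) (by linear_combination ee + 2 * z1 + d1) d2
    (by linear_combination z2 + o12)
  have R7 := rk_add' φ (x := e + (P1 - e) + (P2 - e)) (y := P3 - e)
    (by linear_combination ee + 2 * z1 + d1 + d2 + 2 * z2 + 2 * o12) d3 (by linear_combination z3 + o13 + o23)
  have R8 := rk_add' φ (x := e + (P1 - e) + (P2 - e) + (P3 - e)) (y := P4 - e)
    (by linear_combination ee + 2 * z1 + d1 + d2 + 2 * z2 + 2 * o12 + d3 + 2 * z3 + 2 * o13 + 2 * o23) d4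
    (by linear_combination z4 + o14 + o24 + o34)
  have h1 : e + (P1 - e) + (P2 - e) + (P3 - e) + (P4 - e) = 1 := by linear_combination s - e * h2
  rw [h1] at R8
  omega

theorem range_proj {X : Module.End k V} (h2 : (2 : k) = 0) (hX : X ^ 3 = 1) :
    LinearMap.range (1 + X + X * X : Module.End k V) = LinearMap.ker (X - LinearMap.id) := by
  have h3 : ∀ v, X (X (X v)) = v := fun v => by
    have := LinearMap.congr_fun hX v
    rw [pow_succ, pow_two, Module.End.mul_apply, Module.End.mul_apply, Module.End.one_apply] at this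
    exact this
  ext v
  rw [LinearMap.mem_ker, LinearMap.sub_apply, LinearMap.id_apply, sub_eq_zero]
  constructor
  · rintro ⟨w, rfl⟩
    simp only [LinearMap.add_apply, Module.End.one_apply, Module.End.mul_apply, map_add, h3]
    abel
  · intro hv
    refine ⟨v, ?_⟩
    simp only [LinearMap.add_apply, Module.End.one_apply, Module.End.mul_apply, hv]
    have h4 : (2 : k) • v = 0 := by rw [h2, zero_smul]
    rw [two_smul] at h4
    rw [add_assoc, h4, add_zero]

theorem range_proj2 {A B : Module.End k V} (h2 : (2 : k) = 0) (hA : A ^ 3 = 1) (hB : B ^ 3 = 1) (hc : A * B = B * A) :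
    LinearMap.range ((1 + A + A * A) * (1 + B + B * B) : Module.End k V) =
      LinearMap.ker (A - LinearMap.id) ⊓ LinearMap.ker (B - LinearMap.id) := by
  have hcc : (1 + A + A * A) * (1 + B + B * B) = (1 + B + B * B) * (1 + A + A * A) := by
    have h1 : Commute A B := hc
    have h3 : Commute (1 + A + A * A) (1 + B + B * B) := by
      have h4 : Commute A (1 + B + B * B) := ((Commute.one_right A).add_right h1).add_right (h1.mul_right h1)
      exact ((Commute.one_left _).add_left h4).add_left (h4.mul_left h4)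
    exact h3.eq
  apply le_antisymm
  · apply le_inf
    · rw [← range_proj h2 hA]
      rintro _ ⟨w, rfl⟩
      exact ⟨(1 + B + B * B) w, rfl⟩
    · rw [← range_proj h2 hB, hcc]
      rintro _ ⟨w, rfl⟩
      exact ⟨(1 + A + A * A) w, rfl⟩
  · rintro v ⟨h3, h4⟩
    have h5 : v ∈ LinearMap.range (1 + B + B * B : Module.End k V) := by rw [range_proj h2 hB]; exact h4
    have e : ∀ {X : Module.End k V}, X v = v → (1 + X + X * X : Module.End k V) v = v := by
      intro X hv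
      simp only [LinearMap.add_apply, Module.End.one_apply, Module.End.mul_apply, hv]
      have h4 : (2 : k) • v = 0 := by rw [h2, zero_smul]
      rw [two_smul] at h4
      rw [add_assoc, h4, add_zero]
    have e3 : A v = v := by
      have h3 : v ∈ LinearMap.ker (A - LinearMap.id) := h3
      rwa [LinearMap.mem_ker, LinearMap.sub_apply, LinearMap.id_apply, sub_eq_zero] at h3
    have e4 : B v = v := by
      have h4 : v ∈ LinearMap.ker (B - LinearMap.id) := h4
      rwa [LinearMap.mem_ker, LinearMap.sub_apply, LinearMap.id_apply, sub_eq_zero] at h4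
    exact ⟨v, by rw [Module.End.mul_apply, e e4, e e3]⟩

/-- **the fixed spaces of an elementary abelian group of order 9** -/
theorem wiel {A B : Module.End k V} (h2 : (2 : k) = 0) (hA : A ^ 3 = 1) (hB : B ^ 3 = 1) (hc : A * B = B * A) :
    Module.finrank k V + 3 * Module.finrank k ↥(LinearMap.ker (A - LinearMap.id) ⊓ LinearMap.ker (B - LinearMap.id)) =
      Module.finrank k (LinearMap.ker (A - LinearMap.id)) + Module.finrank k (LinearMap.ker (B - LinearMap.id)) +
      Module.finrank k (LinearMap.ker (A * B - LinearMap.id)) +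
      Module.finrank k (LinearMap.ker (A * B * B - LinearMap.id)) := by
  have hc' : ∀ a ∈ ({A, B} : Set (Module.End k V)), ∀ b ∈ ({A, B} : Set (Module.End k V)), a * b = b * a := by
    rintro a (rfl | rfl) b (rfl | rfl)
    · rfl
    · exact hc
    · exact hc.symm
    · rfl
  let _ : CommRing (Algebra.adjoin k ({A, B} : Set (Module.End k V))) := Algebra.adjoinCommRingOfComm k hc'
  let φ : ↥(Algebra.adjoin k ({A, B} : Set (Module.End k V))) →+* Module.End k V :=
    (Algebra.adjoin k ({A, B} : Set (Module.End k V))).val.toRingHom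
  let a : ↥(Algebra.adjoin k ({A, B} : Set (Module.End k V))) := ⟨A, Algebra.subset_adjoin (by simp)⟩
  let b : ↥(Algebra.adjoin k ({A, B} : Set (Module.End k V))) := ⟨B, Algebra.subset_adjoin (by simp)⟩
  have h2' : (2 : ↥(Algebra.adjoin k ({A, B} : Set (Module.End k V)))) = 0 := by
    apply Subtype.ext
    show (2 : Module.End k V) = 0
    have h3 : (2 : Module.End k V) = (2 : k) • 1 := by rw [two_smul, one_add_one_eq_two]
    rw [h3, h2, zero_smul]
  have ha : a ^ 3 = 1 := Subtype.ext hA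
  have hb : b ^ 3 = 1 := Subtype.ext hB
  have key := wiel_ring φ h2' ha hb
  have hAB : (A * B) ^ 3 = 1 := by
    have : Commute A B := hc
    rw [this.mul_pow, hA, hB, one_mul]
  have hABB : (A * B * B) ^ 3 = 1 := by
    have h : Commute A B := hc
    have : Commute (A * B) B := h.mul_left (Commute.refl B)
    rw [this.mul_pow, hAB, hB, one_mul]
  have k0 : rk (φ 1) = Module.finrank k V := by
    rw [map_one]
    unfold rk
    rw [show (1 : Module.End k V) = LinearMap.id from rfl, LinearMap.range_id, finrank_top]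
  have k1 : rk (φ ((1 + a + a * a) * (1 + b + b * b))) =
      Module.finrank k ↥(LinearMap.ker (A - LinearMap.id) ⊓ LinearMap.ker (B - LinearMap.id)) := by
    rw [← range_proj2 h2 hA hB hc]
    rfl
  have k2 : rk (φ (1 + a + a * a)) = Module.finrank k (LinearMap.ker (A - LinearMap.id)) := by
    rw [← range_proj h2 hA]
    rfl
  have k3 : rk (φ (1 + b + b * b)) = Module.finrank k (LinearMap.ker (B - LinearMap.id)) := by
    rw [← range_proj h2 hB]
    rfl
  have k4 : rk (φ (1 + a * b + a * b * (a * b))) = Module.finrank k (LinearMap.ker (A * B - LinearMap.id)) := by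
    rw [← range_proj h2 hAB]
    rfl
  have k5 : rk (φ (1 + a * b * b + a * b * b * (a * b * b))) = Module.finrank k (LinearMap.ker (A * B * B - LinearMap.id)) := by
    rw [← range_proj h2 hABB]
    rfl
  simp only [k0, k1, k2, k3, k4, k5] at key
  exact key

end Idem

section

variable {S : Type*} [Group S] (f : S →* E2) (hf : Function.Injective f) (hS : B34 S)
include hf hS

end

end Cfsg.Agent.H259.L34
end
end
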